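import Mathlib

/-!
# Alternating words in two elements
-/

namespace Cfsg.Agent.Lib.FeitHigman.Alt

variable {M : Type*} [Monoid M]

/-- `alt a b k = a b a b ⋯` with `k` factors. -/
def alt (a b : M) : ℕ → M
  | 0 => 1
  | k + 1 => a * alt b a k
termination_by k => k

theorem alt_zero (a b : M) : alt a b 0 = 1 := by rw [alt]

theorem alt_succ (a b : M) (k : ℕ) : alt a b (k + 1) = a * alt b a k := by rw [alt]

theorem alt_one (a b : M) : alt a b 1 = a := by rw [alt_succ, alt_zero, mul_one]

theorem alt_two_mul (a b : M) : ∀ i, alt a b (2 * i) = (a * b) ^ i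
  | 0 => by rw [alt_zero, pow_zero]
  | i + 1 => by
    rw [show 2 * (i + 1) = 2 * i + 1 + 1 by ring, alt_succ, alt_succ, alt_two_mul a b i,
      pow_succ', mul_assoc]

theorem alt_two_mul_add_one (a b : M) : ∀ i, alt a b (2 * i + 1) = (a * b) ^ i * a
  | 0 => by rw [alt_one, pow_zero, one_mul]
  | i + 1 => by
    rw [show 2 * (i + 1) + 1 = 2 * i + 1 + 1 + 1 by ring, alt_succ, alt_succ,
      alt_two_mul_add_one a b i, pow_succ', mul_assoc, mul_assoc]

theorem isUnit_alt {a b : M} (ha : IsUnit a) (hb : IsUnit b) (k : ℕ) : IsUnit (alt a b k) := by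
  induction k generalizing a b with
  | zero => rw [alt_zero]; exact isUnit_one
  | succ k ih => rw [alt_succ]; exact ha.mul (ih hb ha)

theorem map_alt {N : Type*} [Monoid N] (f : M →* N) (a b : M) (k : ℕ) :
    f (alt a b k) = alt (f a) (f b) k := by
  induction k generalizing a b with
  | zero => rw [alt_zero, alt_zero, map_one]
  | succ k ih => rw [alt_succ, alt_succ, map_mul, ih]

end Cfsg.Agent.Lib.FeitHigman.Alt
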