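import Cfsg.Agent.Lib.FeitHigman.Poly
import Cfsg.Agent.Lib.FeitHigman.Alt

/-!
# The two-generated Hecke algebra: identities around the central element `u`
-/

namespace Cfsg.Agent.Lib.FeitHigman.Algebra

open Polynomial Cfsg.Agent.Lib.FeitHigman.Alt Cfsg.Agent.Lib.FeitHigman.Poly

variable {A : Type*} [Ring A] [Algebra ℝ A] {S R : A} {c a q p : ℝ}

/-- The central element. -/
def centralElt (S R : A) (c a : ℝ) : A := S * R + R * S - c • R - a • S + (a * c) • (1 : A)

/-- The quadratic `f` with `(SR - RS)² = f(u)`. -/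
noncomputable def fPoly (c a q p : ℝ) : ℝ[X] :=
  X ^ 2 - C (a * c) * X - C (4 * p * q + a ^ 2 * q + c ^ 2 * p)

theorem centralElt_swap : centralElt R S a c = centralElt S R c a := by
  simp only [centralElt, mul_comm c a]; abel

theorem left_mul_quad (hS : S * S = c • S + q • (1 : A)) (x : A) :
    S * (S * x) = c • (S * x) + q • x := by
  rw [← mul_assoc, hS, add_mul, smul_mul_assoc, smul_mul_assoc, one_mul]

section
variable (hS : S * S = c • S + q • (1 : A)) (hR : R * R = a • R + p • (1 : A))

include hS in
theorem centralElt_mul_left :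
    centralElt S R c a * S = S * R * S + q • R - (a * q) • (1 : A) := by
  simp only [centralElt, add_mul, sub_mul, smul_mul_assoc, one_mul, mul_assoc, hS,
    mul_add, mul_smul_comm, mul_one, smul_add, smul_smul]
  module

include hS in
theorem left_mul_centralElt :
    S * centralElt S R c a = S * R * S + q • R - (a * q) • (1 : A) := by
  simp only [centralElt, mul_add, mul_sub, mul_assoc, mul_smul_comm, mul_one,
    left_mul_quad hS, hS, smul_add, smul_smul]
  module

include hS in
theorem commute_left : Commute (centralElt S R c a) S :=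
  (centralElt_mul_left hS).trans (left_mul_centralElt hS).symm

include hR in
theorem commute_right : Commute (centralElt S R c a) R := by
  rw [← centralElt_swap]; exact commute_left hR

include hS hR in
theorem sq_SR : (S * R) * (S * R) = centralElt S R c a * (S * R) - (p * q) • (1 : A) := by
  simp only [centralElt, add_mul, sub_mul, smul_mul_assoc, one_mul, mul_assoc, mul_add,
    left_mul_quad hS, mul_smul_comm, smul_add, smul_smul, hR]
  module

include hS hR in
theorem comm_sq :
    (S * R - R * S) * (S * R - R * S) = aeval (centralElt S R c a) (fPoly c a q p) := by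
  simp only [fPoly, map_sub, map_mul, aeval_X, aeval_C, Algebra.algebraMap_eq_smul_one,
    sq, centralElt, add_mul, sub_mul, mul_sub, smul_mul_assoc, one_mul, mul_assoc, mul_add,
    left_mul_quad hS, left_mul_quad hR, mul_smul_comm, smul_add, smul_sub, smul_smul, hS, hR,
    mul_one]
  module

include hS hR in
theorem pow_succ_SR (k : ℕ) : (S * R) ^ (k + 1) =
    aeval (centralElt S R c a) (U (p * q) (k + 1)) * (S * R)
      - (p * q) • aeval (centralElt S R c a) (U (p * q) k) := by
  induction k with
  | zero => simp [U_one, U_zero]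
  | succ k ih =>
    set u := centralElt S R c a
    have hc : aeval u (U (p * q) (k + 1)) * u = aeval u (X * U (p * q) (k + 1)) := by
      conv_lhs => arg 2; rw [← aeval_X (R := ℝ) u]
      rw [← map_mul, mul_comm]
    rw [pow_succ, ih, sub_mul, mul_assoc, sq_SR hS hR, mul_sub, ← mul_assoc, hc, smul_mul_assoc,
      U_succ_succ, map_sub, map_mul (aeval u) (C (p * q)), aeval_C, sub_mul, mul_smul_comm, mul_one,
      mul_assoc, Algebra.algebraMap_eq_smul_one, smul_mul_assoc, one_mul]
    abel

include hS hR in
theorem pow_succ_RS (k : ℕ) : (R * S) ^ (k + 1) =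
    aeval (centralElt S R c a) (U (p * q) (k + 1)) * (R * S)
      - (p * q) • aeval (centralElt S R c a) (U (p * q) k) := by
  have := pow_succ_SR hR hS k
  rwa [centralElt_swap, mul_comm q p] at this

include hS in
theorem isUnit_left (hq : q ≠ 0) : IsUnit S := by
  have h : S * (S - c • (1 : A)) = q • (1 : A) := by
    rw [mul_sub, hS, mul_smul_comm, mul_one]; abel
  have h' : (S - c • (1 : A)) * S = q • (1 : A) := by
    rw [sub_mul, hS, smul_mul_assoc, one_mul]; abel
  refine isUnit_iff_exists_and_exists.2
    ⟨⟨q⁻¹ • (S - c • (1 : A)), ?_⟩, ⟨q⁻¹ • (S - c • (1 : A)), ?_⟩⟩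
  · rw [mul_smul_comm, h, smul_smul, inv_mul_cancel₀ hq, one_smul]
  · rw [smul_mul_assoc, h', smul_smul, inv_mul_cancel₀ hq, one_smul]

include hS hR in
/-- If the alternating words of odd length `n` agree, the two parameters agree. -/
theorem eq_of_alt_odd (hq : q ≠ 0) (hp : p ≠ 0) {m : ℕ}
    (h : alt S R (2 * m + 1) = alt R S (2 * m + 1)) :
    (c - a) • S + (q - p) • (1 : A) = 0 := by
  set Δ := alt S R (2 * m + 1) with hΔ
  have hu : IsUnit Δ := isUnit_alt (isUnit_left hS hq) (isUnit_left hR hp) _
  have e : S * Δ = Δ * R := by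
    have e1 : S * Δ = alt S R (2 * (m + 1)) := by
      rw [h, show 2 * (m + 1) = 2 * m + 1 + 1 by ring, alt_succ S R (2 * m + 1)]
    have e2 : Δ * R = alt S R (2 * (m + 1)) := by
      rw [hΔ, alt_two_mul_add_one, alt_two_mul, pow_succ, mul_assoc]
    rw [e1, e2]
  refine (hu.mul_left_eq_zero).1 ?_
  have e3 : S * (S * Δ) = a • (S * Δ) + p • Δ := by
    rw [e, ← mul_assoc, e, mul_assoc, hR, mul_add, mul_smul_comm, mul_smul_comm, mul_one]
  rw [left_mul_quad hS] at e3
  rw [add_mul, smul_mul_assoc, smul_mul_assoc, one_mul, sub_smul, sub_smul, ← sub_eq_zero.2 e3]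
  abel

include hS hR in
/-- The annihilating polynomial of `u` for even length. -/
theorem annihilator_even {k : ℕ} (h : alt S R (2 * (k + 1)) = alt R S (2 * (k + 1))) :
    aeval (centralElt S R c a) (U (p * q) (k + 1) * fPoly c a q p) = 0 := by
  rw [alt_two_mul, alt_two_mul, pow_succ_SR hS hR, pow_succ_RS hS hR, sub_left_inj] at h
  have h0 : aeval (centralElt S R c a) (U (p * q) (k + 1)) * (S * R - R * S) = 0 := by
    rw [mul_sub, h, sub_self]
  rw [map_mul, ← comm_sq hS hR, ← mul_assoc, h0, zero_mul]

end

/-- The annihilating polynomial of `u` for odd length and equal parameters. -/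
theorem annihilator_odd (hS : S * S = c • S + q • (1 : A)) (hR : R * R = c • R + q • (1 : A))
    {k : ℕ} (h : alt S R (2 * (k + 1) + 1) = alt R S (2 * (k + 1) + 1)) :
    aeval (centralElt S R c c)
      ((U (q * q) (k + 2) + C q * U (q * q) (k + 1)) * (X - C (2 * q + c ^ 2))) = 0 := by
  set u := centralElt S R c c
  have h1 : S * R * S = u * S - q • R + (c * q) • (1 : A) := by
    rw [centralElt_mul_left hS]; abel
  have h2 : R * S * R = u * R - q • S + (c * q) • (1 : A) := by
    have := centralElt_mul_left (S := R) (R := S) (a := c) hR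
    rw [centralElt_swap] at this
    rw [this]; abel
  rw [alt_two_mul_add_one, alt_two_mul_add_one, pow_succ_SR hS hR, pow_succ_RS hS hR, sub_mul,
    sub_mul, mul_assoc, h1, mul_assoc (aeval u (U (q * q) (k + 1))) (R * S), h2, show centralElt S R c c = u from rfl] at h
  have hG : aeval u (U (q * q) (k + 2) + C q * U (q * q) (k + 1)) * (S - R) = 0 := by
    have hc : aeval u (U (q * q) (k + 1)) * u = aeval u (X * U (q * q) (k + 1)) := by
      conv_lhs => arg 2; rw [← aeval_X (R := ℝ) u]
      rw [← map_mul, mul_comm]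
    rw [← sub_eq_zero.2 h, U_succ_succ]
    simp only [map_add, map_sub, map_mul (aeval u) (C _), aeval_C,
      Algebra.algebraMap_eq_smul_one, smul_mul_assoc, one_mul, add_mul, sub_mul, mul_sub, mul_add,
      mul_smul_comm, ← mul_assoc, hc]
    module
  have hsq : (S - R) * (S - R) = -aeval u (X - C (2 * q + c ^ 2)) := by
    simp only [map_sub, aeval_X, aeval_C, Algebra.algebraMap_eq_smul_one, u, centralElt,
      sub_mul, mul_sub, hS, hR]
    module
  rw [map_mul, ← neg_neg (aeval u (X - C (2 * q + c ^ 2))), ← hsq, mul_neg, ← mul_assoc, hG,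
    zero_mul, neg_zero]

end Cfsg.Agent.Lib.FeitHigman.Algebra
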