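import Cfsg.Agent.Lib.BNPair.Basic

/-!
# The Hecke matrices of a (B, N)-pair on `G ⧸ B`
-/

namespace Cfsg.Agent.Lib.FeitHigman.Cells

open Cfsg.Agent.Lib.BNPair.Basic Matrix

variable {G : Type*} [Group G] {P : Cfsg.BNPair G}

open Classical in
/-- The adjacency matrix of the double coset `cell P w` on `G ⧸ B`. -/
noncomputable def cellMat (P : Cfsg.BNPair G) (w : G) : Matrix (G ⧸ P.B) (G ⧸ P.B) ℝ :=
  fun x y => if x.out⁻¹ * y.out ∈ cell P w then 1 else 0

theorem out_mem_iff (w g h : G) :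
    (g : G ⧸ P.B).out⁻¹ * (h : G ⧸ P.B).out ∈ cell P w ↔ g⁻¹ * h ∈ cell P w := by
  obtain ⟨⟨b, hb⟩, eb⟩ := QuotientGroup.mk_out_eq_mul P.B g
  obtain ⟨⟨c, hc⟩, ec⟩ := QuotientGroup.mk_out_eq_mul P.B h
  rw [eb, ec]
  constructor <;> intro hh
  · have := mul_mem_cell_left hb (mul_mem_cell_right (P.B.inv_mem hc) hh)
    rwa [show b * ((g * b)⁻¹ * (h * c) * c⁻¹) = g⁻¹ * h by group] at this
  · rw [show (g * b)⁻¹ * (h * c) = b⁻¹ * (g⁻¹ * h * c) by group]
    exact mul_mem_cell_left (P.B.inv_mem hb) (mul_mem_cell_right hc hh)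

open Classical in
theorem cellMat_apply (w g h : G) :
    cellMat P w (g : G ⧸ P.B) (h : G ⧸ P.B) = if g⁻¹ * h ∈ cell P w then 1 else 0 := by
  simp only [cellMat, out_mem_iff]

theorem cellMat_congr {v w : G} (h : SameW P v w) : cellMat P w = cellMat P v := by
  unfold cellMat; rw [cell_eq_of_sameW h]

theorem cell_inv_self {s : G} (hs : s ∈ P.S) {g : G} (hg : g ∈ cell P s) : g⁻¹ ∈ cell P s := by
  have := inv_mem_cell hg
  rwa [cell_eq_of_sameW (sameW_symm (inv_sameW hs))] at this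

open Classical in
theorem transpose_cellMat {s : G} (hs : s ∈ P.S) : (cellMat P s)ᵀ = cellMat P s := by
  ext x y
  obtain ⟨g, rfl⟩ := QuotientGroup.mk_surjective x
  obtain ⟨h, rfl⟩ := QuotientGroup.mk_surjective y
  simp only [transpose_apply, cellMat_apply]
  refine if_congr ⟨fun e => ?_, fun e => ?_⟩ rfl rfl <;>
  · have := cell_inv_self hs e
    rwa [_root_.mul_inv_rev, inv_inv] at this

variable [Fintype (G ⧸ P.B)]

open Classical in
theorem trace_cellMat {w : G} (hw : w ∈ P.N) (hwB : w ∉ P.B) : trace (cellMat P w) = 0 := by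
  refine Finset.sum_eq_zero fun x _ => ?_
  rw [diag_apply, cellMat, inv_mul_cancel, if_neg]
  intro h
  exact hwB (sameW_one_iff.1 (sameW_symm (sameW_of_mem_cell hw P.N.one_mem h (mem_cell_self 1))))

open Classical in
theorem mul_apply_card (v w g h : G) : (cellMat P v * cellMat P w) (g : G ⧸ P.B) (h : G ⧸ P.B) =
    (Finset.univ.filter fun z : G ⧸ P.B =>
      g⁻¹ * z.out ∈ cell P v ∧ z.out⁻¹ * h ∈ cell P w).card := by
  rw [mul_apply, ← Finset.sum_boole]
  refine Finset.sum_congr rfl fun z _ => ?_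
  conv_lhs => rw [← QuotientGroup.out_eq' z, cellMat_apply, cellMat_apply]
  by_cases h1 : g⁻¹ * z.out ∈ cell P v <;> simp [h1]

omit [Fintype (G ⧸ P.B)] in
theorem mul_cell_cell {s n g h : G} (hs : s ∈ P.S) (hn : n ∈ P.N)
    (hle : len P n ≤ len P (s * n)) (hg : g ∈ cell P s) (hh : h ∈ cell P n) :
    g * h ∈ cell P (s * n) := by
  obtain ⟨a, ha, b, hb, rfl⟩ := mem_cell_iff.1 hg
  obtain ⟨c, hc, d, hd, rfl⟩ := mem_cell_iff.1 hh
  rw [show a * s * b * (c * n * d) = a * (s * (b * c) * n * d) by group]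
  exact mul_mem_cell_left ha (mul_mem_cell_right hd
    (mul_mem_cell_of_le hs hn hle (P.B.mul_mem hb hc)))

omit [Fintype (G ⧸ P.B)] in
theorem mul_cell_s {s g h : G} (hs : s ∈ P.S) (hg : g ∈ cell P s) (hh : h ∈ cell P s) :
    g * h ∈ P.B ∨ g * h ∈ cell P s := by
  obtain ⟨a, ha, b, hb, rfl⟩ := mem_cell_iff.1 hg
  obtain ⟨c, hc, d, hd, rfl⟩ := mem_cell_iff.1 hh
  rw [show a * s * b * (c * s * d) = a * (s * (b * c) * s * d) by group]
  rcases cell_union hs (S_subset_N hs) (P.B.mul_mem hb hc) with h | h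
  · left
    rw [cell_of_mem_B (P.sq_mem s hs), SetLike.mem_coe] at h
    exact P.B.mul_mem ha (P.B.mul_mem h hd)
  · exact Or.inr (mul_mem_cell_left ha (mul_mem_cell_right hd h))

open Classical in
theorem cellMat_mul {s n : G} (hs : s ∈ P.S) (hn : n ∈ P.N) (hle : len P n ≤ len P (s * n)) :
    cellMat P s * cellMat P n = cellMat P (s * n) := by
  ext x y
  obtain ⟨g, rfl⟩ := QuotientGroup.mk_surjective x
  obtain ⟨h, rfl⟩ := QuotientGroup.mk_surjective y
  rw [mul_apply_card, cellMat_apply]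
  split_ifs with hm
  · obtain ⟨a, ha, b, hb, e⟩ := mem_cell_iff.1 hm
    rw [Nat.cast_eq_one, Finset.card_eq_one]
    refine ⟨((g * a * s : G) : G ⧸ P.B), ?_⟩
    ext z
    obtain ⟨z, rfl⟩ := QuotientGroup.mk_surjective z
    simp only [Finset.mem_filter, Finset.mem_univ, true_and, Finset.mem_singleton]
    obtain ⟨⟨c, hc⟩, ec⟩ := QuotientGroup.mk_out_eq_mul P.B z
    rw [ec]
    have hz0 : g⁻¹ * (g * a * s) ∈ cell P s := by
      rw [show g⁻¹ * (g * a * s) = a * s by group]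
      exact mul_mem_cell_left ha (mem_cell_self s)
    have hz1 : (g * a * s)⁻¹ * h ∈ cell P n := by
      rw [show (g * a * s)⁻¹ * h = s⁻¹ * a⁻¹ * (g⁻¹ * h) by group, e,
        show s⁻¹ * a⁻¹ * (a * (s * n) * b) = n * b by group]
      exact mul_mem_cell_right hb (mem_cell_self n)
    constructor
    · rintro ⟨h1, h2⟩
      rw [QuotientGroup.eq]
      by_contra hne
      have h3 : (z * c)⁻¹ * (g * a * s) ∈ cell P s := by
        rcases mul_cell_s hs (cell_inv_self hs h1) hz0 with h4 | h4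
        · exfalso
          rw [show (g⁻¹ * (z * c))⁻¹ * (g⁻¹ * (g * a * s)) = c⁻¹ * (z⁻¹ * (g * a * s)) by group] at h4
          exact hne ((P.B.mul_mem_cancel_left (P.B.inv_mem hc)).1 h4)
        · rwa [show (g⁻¹ * (z * c))⁻¹ * (g⁻¹ * (g * a * s)) = (z * c)⁻¹ * (g * a * s) by group] at h4
      have h5 := mul_cell_cell hs hn hle h3 hz1
      rw [show (z * c)⁻¹ * (g * a * s) * ((g * a * s)⁻¹ * h) = (z * c)⁻¹ * h by group] at h5
      exact not_sameW_mul hs hn (sameW_of_mem_cell hn (P.N.mul_mem (S_subset_N hs) hn) h2 h5)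
    · intro hz
      have hzc : (g * a * s)⁻¹ * (z * c) ∈ P.B := by
        rw [← mul_assoc]; exact P.B.mul_mem (QuotientGroup.eq.1 hz.symm) hc
      constructor
      · have := mul_mem_cell_right hzc hz0
        rwa [show g⁻¹ * (g * a * s) * ((g * a * s)⁻¹ * (z * c)) = g⁻¹ * (z * c) by group] at this
      · have := mul_mem_cell_left (P.B.inv_mem hzc) hz1
        rwa [show ((g * a * s)⁻¹ * (z * c))⁻¹ * ((g * a * s)⁻¹ * h) = (z * c)⁻¹ * h by group] at this
  · rw [Nat.cast_eq_zero, Finset.card_eq_zero, Finset.filter_eq_empty_iff]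
    rintro z - ⟨h1, h2⟩
    have := mul_cell_cell hs hn hle h1 h2
    rw [show g⁻¹ * z.out * (z.out⁻¹ * h) = g⁻¹ * h by group] at this
    exact hm this

open Classical in
/-- The number of cosets in `B s B`. -/
noncomputable def index (P : Cfsg.BNPair G) [Fintype (G ⧸ P.B)] (s : G) : ℕ :=
  (Finset.univ.filter fun z : G ⧸ P.B => z.out ∈ cell P s).card

open Classical in
theorem card_translate (s g : G) :
    (Finset.univ.filter fun z : G ⧸ P.B => g⁻¹ * z.out ∈ cell P s).card = index P s := by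
  refine Finset.card_equiv (MulAction.toPerm g⁻¹) fun z => ?_
  obtain ⟨z, rfl⟩ := QuotientGroup.mk_surjective z
  simp only [Finset.mem_filter, Finset.mem_univ, true_and, MulAction.toPerm_apply]
  change g⁻¹ * (z : G ⧸ P.B).out ∈ cell P s ↔ ((g⁻¹ * z : G) : G ⧸ P.B).out ∈ cell P s
  obtain ⟨⟨c, hc⟩, ec⟩ := QuotientGroup.mk_out_eq_mul P.B z
  obtain ⟨⟨d, hd⟩, ed⟩ := QuotientGroup.mk_out_eq_mul P.B (g⁻¹ * z)
  rw [ec, ed]
  constructor <;> intro h
  · have := mul_mem_cell_right (P.B.mul_mem (P.B.inv_mem hc) hd) h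
    rwa [show g⁻¹ * (z * c) * (c⁻¹ * d) = g⁻¹ * z * d by group] at this
  · have := mul_mem_cell_right (P.B.mul_mem (P.B.inv_mem hd) hc) h
    rwa [show g⁻¹ * z * d * (d⁻¹ * c) = g⁻¹ * (z * c) by group] at this

open Classical in
theorem two_le_index {s : G} (hs : s ∈ P.S) : 2 ≤ index P s := by
  obtain ⟨b, hb, hbs⟩ := exists_mem_cell_s hs
  have hmem : ∀ x : G, x ∈ cell P s → (x : G ⧸ P.B).out ∈ cell P s := by
    intro x hx
    obtain ⟨⟨c, hc⟩, ec⟩ := QuotientGroup.mk_out_eq_mul P.B x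
    rw [ec]; exact mul_mem_cell_right hc hx
  refine Finset.one_lt_card.2 ⟨(s : G ⧸ P.B), ?_, ((b * s : G) : G ⧸ P.B), ?_, ?_⟩
  · simpa using hmem s (mem_cell_self s)
  · simpa using hmem _ (mul_mem_cell_left hb (mem_cell_self s))
  · intro e
    rw [QuotientGroup.eq] at e
    have h1 : s * b * s ∈ P.B := by
      have := P.B.mul_mem (P.sq_mem s hs) e
      rwa [show s * s * (s⁻¹ * (b * s)) = s * b * s by group] at this
    exact not_mem_B hs (sameW_one_iff.1 (sameW_of_mem_cell P.N.one_mem (S_subset_N hs)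
      (by rwa [cell_of_mem_B P.B.one_mem, SetLike.mem_coe]) hbs))

open Classical in
theorem cellMat_sq {s : G} (hs : s ∈ P.S) :
    cellMat P s * cellMat P s = ((index P s : ℝ) - 1) • cellMat P s
      + (index P s : ℝ) • (1 : Matrix (G ⧸ P.B) (G ⧸ P.B) ℝ) := by
  ext x y
  obtain ⟨g, rfl⟩ := QuotientGroup.mk_surjective x
  obtain ⟨h, rfl⟩ := QuotientGroup.mk_surjective y
  rw [mul_apply_card, Matrix.add_apply, Matrix.smul_apply, Matrix.smul_apply, cellMat_apply,
    Matrix.one_apply, smul_eq_mul, smul_eq_mul]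
  by_cases hgh : (g : G ⧸ P.B) = h
  · have hgB : g⁻¹ * h ∈ P.B := QuotientGroup.eq.1 hgh
    have hns : g⁻¹ * h ∉ cell P s := fun h' => not_mem_B hs (sameW_one_iff.1
      (sameW_of_mem_cell P.N.one_mem (S_subset_N hs)
        (by rwa [cell_of_mem_B P.B.one_mem, SetLike.mem_coe]) h'))
    rw [if_neg hns, if_pos hgh, mul_zero, mul_one, zero_add, Nat.cast_inj, ← card_translate s g]
    refine congrArg Finset.card (Finset.filter_congr fun z _ => ⟨fun h' => h'.1, fun h' => ⟨h', ?_⟩⟩)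
    have := mul_mem_cell_right hgB (cell_inv_self hs h')
    rwa [show (g⁻¹ * z.out)⁻¹ * (g⁻¹ * h) = z.out⁻¹ * h by group] at this
  · rw [if_neg hgh, mul_zero, add_zero]
    split_ifs with hm
    · have hset : (Finset.univ.filter fun z : G ⧸ P.B =>
          g⁻¹ * z.out ∈ cell P s ∧ z.out⁻¹ * h ∈ cell P s)
          = (Finset.univ.filter fun z : G ⧸ P.B => g⁻¹ * z.out ∈ cell P s).erase (h : G ⧸ P.B) := by
        ext z
        obtain ⟨z, rfl⟩ := QuotientGroup.mk_surjective z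
        simp only [Finset.mem_erase, Finset.mem_filter, Finset.mem_univ, true_and, ne_eq]
        obtain ⟨⟨c, hc⟩, ec⟩ := QuotientGroup.mk_out_eq_mul P.B z
        rw [ec]
        constructor
        · rintro ⟨h1, h2⟩
          refine ⟨fun e => ?_, h1⟩
          have hB : (z * c)⁻¹ * h ∈ P.B := by
            rw [show (z * c)⁻¹ * h = c⁻¹ * (z⁻¹ * h) by group]
            exact P.B.mul_mem (P.B.inv_mem hc) (QuotientGroup.eq.1 e)
          exact not_mem_B hs (sameW_one_iff.1 (sameW_of_mem_cell P.N.one_mem (S_subset_N hs)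
            (by rwa [cell_of_mem_B P.B.one_mem, SetLike.mem_coe]) h2))
        · rintro ⟨hne, h1⟩
          refine ⟨h1, ?_⟩
          rcases mul_cell_s hs (cell_inv_self hs h1) hm with h4 | h4
          · exfalso
            rw [show (g⁻¹ * (z * c))⁻¹ * (g⁻¹ * h) = c⁻¹ * (z⁻¹ * h) by group] at h4
            exact hne (QuotientGroup.eq.2 ((P.B.mul_mem_cancel_left (P.B.inv_mem hc)).1 h4))
          · rwa [show (g⁻¹ * (z * c))⁻¹ * (g⁻¹ * h) = (z * c)⁻¹ * h by group] at h4
      have hh : (h : G ⧸ P.B) ∈ Finset.univ.filter fun z : G ⧸ P.B => g⁻¹ * z.out ∈ cell P s := by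
        obtain ⟨⟨c, hc⟩, ec⟩ := QuotientGroup.mk_out_eq_mul P.B h
        simp only [Finset.mem_filter, Finset.mem_univ, true_and, ec]
        rw [show g⁻¹ * (h * c) = g⁻¹ * h * c by group]
        exact mul_mem_cell_right hc hm
      rw [hset, Finset.card_erase_of_mem hh, card_translate,
        Nat.cast_sub (by have := two_le_index (P := P) hs; omega)]
      simp
    · rw [mul_zero, Nat.cast_eq_zero, Finset.card_eq_zero, Finset.filter_eq_empty_iff]
      rintro z - ⟨h1, h2⟩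
      rcases mul_cell_s hs h1 h2 with h4 | h4 <;>
        rw [show g⁻¹ * z.out * (z.out⁻¹ * h) = g⁻¹ * h by group] at h4
      · exact hgh (QuotientGroup.eq.2 h4)
      · exact hm h4

end Cfsg.Agent.Lib.FeitHigman.Cells
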