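import Cfsg.Agent.Lib.FeitHigman.Alt

/-!
# Groups generated by two involutions with a length function
-/

namespace Cfsg.Agent.Lib.FeitHigman.Dihedral

open Cfsg.Agent.Lib.FeitHigman.Alt

/-- A length function for two involutive generators. -/
structure LenFun (W : Type*) [Group W] (a b : W) where
  /-- the length -/
  L : W → ℕ
  L_one : L 1 = 0
  eq_one : ∀ w, L w = 0 → w = 1
  left_cases : ∀ w, (L (a * w) = L w + 1 ∨ L (a * w) + 1 = L w) ∧
    (L (b * w) = L w + 1 ∨ L (b * w) + 1 = L w)
  descent : ∀ w, w ≠ 1 → L (a * w) < L w ∨ L (b * w) < L w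

variable {W : Type*} [Group W] {a b : W}

/-- Exchange the two generators. -/
def LenFun.swap (F : LenFun W a b) : LenFun W b a where
  L := F.L
  L_one := F.L_one
  eq_one := F.eq_one
  left_cases w := (F.left_cases w).symm
  descent w hw := (F.descent w hw).symm

variable (F : LenFun W a b) (ha : a * a = 1) (hb : b * b = 1)

theorem L_alt_le (F : LenFun W a b) : ∀ k, F.L (alt a b k) ≤ k := by
  intro k
  induction k generalizing a b with
  | zero => rw [alt_zero, F.L_one]
  | succ k ih =>
    rw [alt_succ]
    have := ih F.swap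
    simp only [LenFun.swap] at this
    rcases (F.left_cases (alt b a k)).1 with h | h <;> omega

theorem L_alt_parity (F : LenFun W a b) : ∀ k, F.L (alt a b k) % 2 = k % 2 := by
  intro k
  induction k generalizing a b with
  | zero => rw [alt_zero, F.L_one]
  | succ k ih =>
    rw [alt_succ]
    have := ih F.swap
    simp only [LenFun.swap] at this
    rcases (F.left_cases (alt b a k)).1 with h | h <;> omega

theorem eq_alt : ∀ (k : ℕ) {a b : W} (F : LenFun W a b), a * a = 1 → b * b = 1 →
    ∀ w, F.L w = k → w = alt a b k ∨ w = alt b a k := by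
  intro k
  induction k with
  | zero =>
    intro a b F _ _ w hw
    left; rw [alt_zero, F.eq_one w hw]
  | succ k ih =>
    suffices h : ∀ {a b : W} (F : LenFun W a b), a * a = 1 → b * b = 1 → ∀ w, F.L w = k + 1 →
        F.L (a * w) = k → w = alt a b (k + 1) by
      intro a b F ha hb w hw
      have hw1 : w ≠ 1 := fun e => by rw [e, F.L_one] at hw; omega
      rcases F.descent w hw1 with hd | hd
      · left
        refine h F ha hb w hw ?_
        rcases (F.left_cases w).1 with h' | h' <;> omega
      · right
        refine h F.swap hb ha w hw ?_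
        simp only [LenFun.swap]
        rcases (F.left_cases w).2 with h' | h' <;> omega
    intro a b F ha hb w hw hd
    have hw' : w = a * (a * w) := by rw [← mul_assoc, ha, one_mul]
    rcases ih F ha hb _ hd with e | e
    · rcases k with _ | j
      · rw [hw', e, alt_zero, alt_one, mul_one]
      · exfalso
        rw [e, alt_succ, ← mul_assoc, ha, one_mul] at hw'
        have := L_alt_le F.swap j
        simp only [LenFun.swap, ← hw'] at this
        omega
    · rw [alt_succ, ← e]; exact hw'

include ha hb in
theorem alt_full {n : ℕ} (hn : n = orderOf (a * b)) :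
    alt a b (2 * n) = 1 ∧ alt b a (2 * n) = 1 := by
  have h : b * a = (a * b)⁻¹ := by
    rw [mul_inv_rev, inv_eq_of_mul_eq_one_right ha, inv_eq_of_mul_eq_one_right hb]
  rw [alt_two_mul, alt_two_mul, h, inv_pow, hn, pow_orderOf_eq_one, inv_one]
  exact ⟨rfl, rfl⟩

include ha hb in
theorem mirror {n : ℕ} (hn : n = orderOf (a * b)) : ∀ k, k ≤ 2 * n →
    alt a b (2 * n - k) = alt b a k ∧ alt b a (2 * n - k) = alt a b k := by
  intro k
  induction k with
  | zero => intro _; simpa [alt_zero] using alt_full ha hb hn
  | succ k ih =>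
    intro hk
    obtain ⟨h1, h2⟩ := ih (by omega)
    rw [show 2 * n - k = (2 * n - (k + 1)) + 1 by omega, alt_succ] at h1 h2
    refine ⟨?_, ?_⟩
    · rw [alt_succ b a k, ← h2, ← mul_assoc, hb, one_mul]
    · rw [alt_succ a b k, ← h1, ← mul_assoc, ha, one_mul]

theorem alt_add_two_mul {n : ℕ} (hn : n = orderOf (a * b)) (k : ℕ) :
    alt a b (2 * n + k) = alt a b k := by
  obtain ⟨i, rfl | rfl⟩ : ∃ i, k = 2 * i ∨ k = 2 * i + 1 := ⟨k / 2, by omega⟩
  · rw [← Nat.mul_add, alt_two_mul, alt_two_mul, pow_add, hn, pow_orderOf_eq_one, one_mul]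
  · rw [← Nat.add_assoc, ← Nat.mul_add, alt_two_mul_add_one, alt_two_mul_add_one, pow_add, hn,
      pow_orderOf_eq_one, one_mul]

theorem alt_injOn (F : LenFun W a b) {n k k' : ℕ} (hn : n = orderOf (a * b)) (hk : k < 2 * n)
    (hk' : k' < 2 * n) (h : alt a b k = alt a b k') : k = k' := by
  have hpar : k % 2 = k' % 2 := by rw [← L_alt_parity F k, h, L_alt_parity F k']
  have hpow : (a * b) ^ (k / 2) = (a * b) ^ (k' / 2) := by
    rcases Nat.mod_two_eq_zero_or_one k with e | e
    · rwa [show k = 2 * (k / 2) by omega, show k' = 2 * (k' / 2) by omega, alt_two_mul,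
        alt_two_mul] at h
    · rw [show k = 2 * (k / 2) + 1 by omega, show k' = 2 * (k' / 2) + 1 by omega,
        alt_two_mul_add_one, alt_two_mul_add_one] at h
      exact mul_right_cancel h
  have := pow_injOn_Iio_orderOf (x := a * b) (show k / 2 < orderOf (a * b) by omega)
    (show k' / 2 < orderOf (a * b) by omega) hpow
  omega

include ha hb in
theorem L_alt (F : LenFun W a b) {n k : ℕ} (hn : n = orderOf (a * b)) (hk : k ≤ n) :
    F.L (alt a b k) = k := by
  have hle := L_alt_le F k
  have hpar := L_alt_parity F k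
  by_contra hne
  rcases eq_alt _ F ha hb (alt a b k) rfl with e | e
  · exact hne (alt_injOn F hn (by omega) (by omega) e.symm)
  · by_cases h0 : F.L (alt a b k) = 0
    · rw [h0, alt_zero, ← alt_zero a b] at e
      exact hne (by rw [h0]; exact (alt_injOn F hn (by omega) (by omega) e).symm)
    · rw [← (mirror ha hb hn _ (by omega)).1] at e
      have := alt_injOn F hn (by omega) (by omega) e
      omega

include ha hb in
theorem card_eq (F : LenFun W a b) [Finite W] {n : ℕ} (hn : n = orderOf (a * b)) :
    Nat.card W = 2 * n := by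
  have hpos : 0 < n := hn ▸ orderOf_pos _
  rw [← Nat.card_fin (2 * n)]
  refine (Nat.card_eq_of_bijective (fun i : Fin (2 * n) => alt a b i) ⟨?_, ?_⟩).symm
  · intro i j h
    exact Fin.ext (alt_injOn F hn i.2 j.2 h)
  · intro w
    have hk : F.L w ≤ 2 * n := by
      by_contra hc
      obtain ⟨j, hj⟩ : ∃ j, F.L w = 2 * n + j := ⟨F.L w - 2 * n, by omega⟩
      have hn' : n = orderOf (b * a) := by
        rw [hn, ← orderOf_inv (a * b), mul_inv_rev, inv_eq_of_mul_eq_one_right ha,
          inv_eq_of_mul_eq_one_right hb]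
      rcases eq_alt _ F ha hb w rfl with e | e
      · rw [hj, alt_add_two_mul hn] at e
        have := L_alt_le F j
        rw [← e] at this; omega
      · rw [hj, alt_add_two_mul hn'] at e
        have := L_alt_le F.swap j
        simp only [LenFun.swap, ← e] at this; omega
    rcases eq_alt _ F ha hb w rfl with e | e
    · rcases hk.lt_or_eq with h | h
      · exact ⟨⟨F.L w, h⟩, e.symm⟩
      · exact ⟨⟨0, by omega⟩, by rw [e, h, (alt_full ha hb hn).1]; exact alt_zero a b⟩
    · rw [← (mirror ha hb hn _ hk).1] at e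
      by_cases h0 : F.L w = 0
      · exact ⟨⟨0, by omega⟩, by rw [e, h0, Nat.sub_zero, (alt_full ha hb hn).1]; exact alt_zero a b⟩
      · exact ⟨⟨2 * n - F.L w, by omega⟩, e.symm⟩

end Cfsg.Agent.Lib.FeitHigman.Dihedral
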