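import Cfsg.Agent.Lib.FeitHigman.Spectral

/-!
# The matrix form of the theorem of Feit and Higman
-/

namespace Cfsg.Agent.Lib.FeitHigman.Main

open Polynomial Matrix Cfsg.Agent.Lib.FeitHigman.Alt Cfsg.Agent.Lib.FeitHigman.Poly
  Cfsg.Agent.Lib.FeitHigman.Algebra Cfsg.Agent.Lib.FeitHigman.Spectral

/-- A number is rational. -/
def IsRat (x : ℝ) : Prop := ∃ r : ℚ, x = (r : ℝ)

theorem eq_zero_of_irrat {x : ℝ} (hx : ¬ IsRat x) {a b : ℚ} (h : (a : ℝ) * x + b = 0) :
    a = 0 ∧ b = 0 := by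
  by_cases ha : a = 0
  · subst ha; simpa using h
  · refine absurd ⟨-b / a, ?_⟩ hx
    have : (a : ℝ) ≠ 0 := by exact_mod_cast ha
    push_cast; field_simp; linarith

/-- The second root of a rational quadratic with an irrational root is a root of every rational
polynomial vanishing at the first. -/
theorem conj_root {x : ℝ} (hx : ¬ IsRat x) {b c : ℚ} (h : x ^ 2 + b * x + c = 0) (P : ℚ[X])
    (hP : (P.map (Rat.castHom ℝ)).eval x = 0) :
    (P.map (Rat.castHom ℝ)).eval (-(b : ℝ) - x) = 0 := by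
  set M : ℚ[X] := X ^ 2 + C b * X + C c
  have hM : M.Monic := by simp only [M]; monicity!
  have hdeg : (P %ₘ M).natDegree ≤ 1 := by
    have h2 : M.natDegree = 2 := by simp only [M]; compute_degree!
    have := natDegree_modByMonic_lt P hM (fun h1 => by rw [h1, natDegree_one] at h2; omega)
    omega
  have hev : ∀ y : ℝ, y ^ 2 + b * y + c = 0 → (P.map (Rat.castHom ℝ)).eval y
      = ((P %ₘ M).coeff 1 : ℝ) * y + ((P %ₘ M).coeff 0 : ℝ) := by
    intro y hy
    have hMy : (M.map (Rat.castHom ℝ)).eval y = 0 := by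
      simp only [M, Polynomial.map_add, Polynomial.map_mul, Polynomial.map_pow, map_X, map_C,
        eval_add, eval_mul, eval_pow, eval_X, eval_C, eq_ratCast]
      linear_combination hy
    conv_lhs => rw [← modByMonic_add_div P M]
    rw [Polynomial.map_add, Polynomial.map_mul, eval_add, eval_mul, hMy, zero_mul, add_zero]
    conv_lhs => rw [eq_X_add_C_of_natDegree_le_one hdeg]
    simp only [Polynomial.map_add, Polynomial.map_mul, map_X, map_C, eval_add, eval_mul, eval_X,
      eval_C, eq_ratCast]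
  rw [hev x h] at hP
  obtain ⟨h1, h0⟩ := eq_zero_of_irrat hx hP
  rw [hev _ (by linear_combination h), h1, h0]
  simp

theorem four_pq_lt {p q : ℕ} (hp : 2 ≤ p) (hq : 2 ≤ q) :
    4 * (p * q : ℝ) < ((p : ℝ) * q + 1) * (p + q) := by
  have h1 : (2 : ℝ) ≤ p := by exact_mod_cast hp
  have h2 : (2 : ℝ) ≤ q := by exact_mod_cast hq
  nlinarith [mul_le_mul h1 h2 (by norm_num) (by linarith)]

/-- An irrational eigenvalue forces negative leading coefficient. -/
theorem lead_neg {p q n N r : ℕ} (hp : 2 ≤ p) (hq : 2 ≤ q) (hn : 0 < n) (hr : 1 ≤ r)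
    {lam : ℝ} (hlam : ¬ IsRat lam) (hlam4 : lam ^ 2 < 4 * (p * q)) (P : ℚ[X])
    (hPlam : (P.map (Rat.castHom ℝ)).eval lam = 0)
    (hP : ∀ x : ℝ, (P.map (Rat.castHom ℝ)).eval x = 0 → x ^ 2 < 4 * (p * q))
    (h : ((n : ℝ) * r - 2 * N) * lam ^ 2 - (n : ℝ) * r * (((p : ℝ) - 1) * ((q : ℝ) - 1)) * lam
      + (8 * p * q * N - (n : ℝ) * r * (((p : ℝ) * q + 1) * (p + q))) = 0) :
    (n : ℝ) * r < 2 * N := by
  set A : ℚ := (n : ℚ) * r - 2 * N
  set B : ℚ := -((n : ℚ) * r * (((p : ℚ) - 1) * ((q : ℚ) - 1)))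
  set D : ℚ := 8 * p * q * N - (n : ℚ) * r * (((p : ℚ) * q + 1) * (p + q))
  have hA : (A : ℝ) = (n : ℝ) * r - 2 * N := by simp [A]
  have hD : (D : ℝ) = 8 * p * q * N - (n : ℝ) * r * (((p : ℝ) * q + 1) * (p + q)) := by simp [D]
  have hnr : 0 < (n : ℝ) * r := by
    have : 0 < n * r := Nat.mul_pos hn hr
    exact_mod_cast this
  have h' : (A : ℝ) * lam ^ 2 + B * lam + D = 0 := by
    rw [hA, hD]; simp only [B]; push_cast; linear_combination h
  by_cases hA0 : A = 0
  · exfalso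
    rw [hA0, Rat.cast_zero, zero_mul, zero_add] at h'
    obtain ⟨hB, -⟩ := eq_zero_of_irrat hlam h'
    have h1 : (1 : ℚ) ≤ p - 1 := by
      have : (2 : ℚ) ≤ p := by exact_mod_cast hp
      linarith
    have h2 : (1 : ℚ) ≤ q - 1 := by
      have : (2 : ℚ) ≤ q := by exact_mod_cast hq
      linarith
    have h3 : (0 : ℚ) < (n : ℚ) * r * (((p : ℚ) - 1) * ((q : ℚ) - 1)) := by
      have : (0 : ℚ) < (n : ℚ) * r := by exact_mod_cast Nat.mul_pos hn hr
      positivity
    simp only [B] at hB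
    linarith
  have hAR : (A : ℝ) ≠ 0 := by exact_mod_cast hA0
  have hm : lam ^ 2 + ((B / A : ℚ) : ℝ) * lam + ((D / A : ℚ) : ℝ) = 0 := by
    push_cast; field_simp; linear_combination h'
  have hc := hP _ (conj_root hlam hm P hPlam)
  have hprod : (lam * (-((B / A : ℚ) : ℝ) - lam)) ^ 2 < (4 * ((p : ℝ) * q)) ^ 2 := by
    rw [mul_pow, pow_two (4 * ((p : ℝ) * q))]
    exact mul_lt_mul'' hlam4 hc (sq_nonneg _) (sq_nonneg _)
  rw [show lam * (-((B / A : ℚ) : ℝ) - lam) = ((D / A : ℚ) : ℝ) by linear_combination -hm,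
    Rat.cast_div] at hprod
  by_contra hle
  have hApos : 0 < (A : ℝ) := lt_of_le_of_ne (by rw [hA]; linarith) hAR.symm
  have h4 : -(4 * ((p : ℝ) * q)) < (D : ℝ) / A := (abs_lt.1 (abs_lt_of_sq_lt_sq hprod (by positivity))).1
  rw [lt_div_iff₀ hApos, hA, hD] at h4
  nlinarith [four_pq_lt hp hq]

/-- The theorem of Feit and Higman for two matrices satisfying quadratic relations. -/
theorem feit_higman_matrix {Ω : Type*} [Fintype Ω] [DecidableEq Ω] [Nonempty Ω]
    {S R : Matrix Ω Ω ℝ} {q p n : ℕ} (hn : 3 ≤ n) (hq : 2 ≤ q) (hp : 2 ≤ p) (hSt : Sᵀ = S)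
    (hRt : Rᵀ = R) (hS : S * S = ((q : ℝ) - 1) • S + (q : ℝ) • (1 : Matrix Ω Ω ℝ))
    (hR : R * R = ((p : ℝ) - 1) • R + (p : ℝ) • (1 : Matrix Ω Ω ℝ))
    (htS : ∀ j, 1 ≤ j → j ≤ n → trace (alt S R j) = 0)
    (htR : ∀ j, 1 ≤ j → j ≤ n → trace (alt R S j) = 0)
    (heq : alt S R n = alt R S n) : n ∈ ({3, 4, 6, 8} : Set ℕ) := by
  have hq0 : (0 : ℝ) < q := by exact_mod_cast (by omega : 0 < q)
  have hp0 : (0 : ℝ) < p := by exact_mod_cast (by omega : 0 < p)
  set g := √((p : ℝ) * q) with hgdef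
  have hg : 0 < g := Real.sqrt_pos.2 (mul_pos hp0 hq0)
  have hg2 : g ^ 2 = (p : ℝ) * q := Real.sq_sqrt (mul_pos hp0 hq0).le
  set lam : ℕ → ℝ := fun l => 2 * g * Real.cos (ang n l)
  have hquad : ∀ l, 1 ≤ l → 2 * l < n → ∃ r : ℕ, 1 ≤ r ∧
      ((n : ℝ) * r - 2 * Fintype.card Ω) * lam l ^ 2
        - (n : ℝ) * r * (((p : ℝ) - 1) * ((q : ℝ) - 1)) * lam l
        + (8 * p * q * Fintype.card Ω - (n : ℝ) * r * (((p : ℝ) * q + 1) * (p + q))) = 0 :=
    fun l hl hl' => multiplicity hn hq0 hp0 hSt hRt hS hR htS htR heq hl hl'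
  have hqp : Odd n → q = p := fun h => by
    exact_mod_cast eq_of_odd hS hR hq0.ne' hp0.ne' (by omega) htS heq h
  have hqg : Odd n → (q : ℝ) = g := fun h => by
    rw [hgdef, ← hqp h, Real.sqrt_mul_self hq0.le]
  set P : ℚ[X] := G n ((p : ℚ) * q) (q : ℚ)
  have hPmap : P.map (Rat.castHom ℝ)
      = ∏ l ∈ Finset.Icc 1 ((n - 1) / 2), (X - C (lam l)) := by
    rw [← G_eq_prod hn hg hqg, hg2, map_G]
    simp
  have hPz : ∀ l, 1 ≤ l → 2 * l < n → (P.map (Rat.castHom ℝ)).eval (lam l) = 0 := by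
    intro l hl hl'
    rw [hPmap, eval_prod]
    exact Finset.prod_eq_zero (Finset.mem_Icc.2 ⟨hl, by omega⟩) (by simp)
  have hlt : ∀ l, 1 ≤ l → 2 * l < n → lam l ^ 2 < 4 * ((p : ℝ) * q) := by
    intro l hl hl'
    have hs := sin_ang_ne hl hl'
    have : 0 < Real.sin (ang n l) ^ 2 := by positivity
    simp only [lam]
    nlinarith [Real.sin_sq_add_cos_sq (ang n l), mul_pos hp0 hq0]
  have hProot : ∀ x : ℝ, (P.map (Rat.castHom ℝ)).eval x = 0 → x ^ 2 < 4 * ((p : ℝ) * q) := by
    intro x hx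
    rw [hPmap, eval_prod, Finset.prod_eq_zero_iff] at hx
    obtain ⟨l, hl, hl0⟩ := hx
    rw [eval_sub, eval_X, eval_C, sub_eq_zero] at hl0
    rw [hl0]
    have := Finset.mem_Icc.1 hl
    exact hlt l this.1 (by omega)
  rcases Nat.even_or_odd n with ⟨m, hm⟩ | hodd
  · -- all eigenvalues are rational
    have hrat : ∀ l, 1 ≤ l → 2 * l < n → IsRat (lam l) := by
      intro l hl hl'
      by_contra hir
      have hneg : lam (m - l) = -lam l := by
        have e : ang n (m - l) = Real.pi - ang n l := by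
          have hn0 : (n : ℝ) ≠ 0 := by exact_mod_cast (by omega : n ≠ 0)
          unfold ang
          rw [Nat.cast_sub (by omega)]
          have : (n : ℝ) = m + m := by exact_mod_cast hm
          field_simp
          linear_combination -this
        simp only [lam, e, Real.cos_pi_sub]; ring
      have hir' : ¬ IsRat (lam (m - l)) := by
        rintro ⟨x, hx⟩
        exact hir ⟨-x, by push_cast; linarith⟩
      obtain ⟨r, hr, h⟩ := hquad l hl hl'
      obtain ⟨r', hr', h'⟩ := hquad (m - l) (by omega) (by omega)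
      have a1 := lead_neg hp hq (by omega) hr hir (hlt l hl hl') P (hPz l hl hl') hProot h
      have a2 := lead_neg hp hq (by omega) hr' hir' (hlt _ (by omega) (by omega)) P
        (hPz _ (by omega) (by omega)) hProot h'
      rw [hneg] at h'
      obtain ⟨hc, -⟩ := eq_zero_of_irrat hir
        (a := ((n : ℚ) * r - 2 * Fintype.card Ω) * ((n : ℚ) * r' * (((p : ℚ) - 1) * ((q : ℚ) - 1)))
          + ((n : ℚ) * r' - 2 * Fintype.card Ω) * ((n : ℚ) * r * (((p : ℚ) - 1) * ((q : ℚ) - 1))))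
        (b := ((n : ℚ) * r - 2 * Fintype.card Ω) * (8 * p * q * Fintype.card Ω
            - (n : ℚ) * r' * (((p : ℚ) * q + 1) * (p + q)))
          - ((n : ℚ) * r' - 2 * Fintype.card Ω) * (8 * p * q * Fintype.card Ω
            - (n : ℚ) * r * (((p : ℚ) * q + 1) * (p + q))))
        (by
          push_cast
          linear_combination ((n : ℝ) * r - 2 * Fintype.card Ω) * h'
            - ((n : ℝ) * r' - 2 * Fintype.card Ω) * h)
      have hc' := congrArg (fun x : ℚ => (x : ℝ)) hc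
      push_cast at hc'
      have hac : (0 : ℝ) < ((p : ℝ) - 1) * ((q : ℝ) - 1) := by
        have : (2 : ℝ) ≤ p := by exact_mod_cast hp
        have : (2 : ℝ) ≤ q := by exact_mod_cast hq
        exact mul_pos (by linarith) (by linarith)
      have hn' : (0 : ℝ) < n := by exact_mod_cast (by omega : 0 < n)
      have hr0 : (0 : ℝ) < r := by exact_mod_cast hr
      have hr0' : (0 : ℝ) < r' := by exact_mod_cast hr'
      have t1 := mul_neg_of_neg_of_pos (sub_neg.2 a1) (mul_pos (mul_pos hn' hr0') hac)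
      have t2 := mul_neg_of_neg_of_pos (sub_neg.2 a2) (mul_pos (mul_pos hn' hr0) hac)
      linarith
    obtain ⟨x, hx⟩ := hrat 1 le_rfl (by omega)
    have hcos : Real.cos (2 * Real.pi / m)
        = ((x ^ 2 / (2 * ((p : ℚ) * q)) - 1 : ℚ) : ℝ) := by
      have e : 2 * Real.pi / m = 2 * ang n 1 := by
        have : (n : ℝ) = 2 * m := by rw [hm]; push_cast; ring
        unfold ang; rw [this]; push_cast; ring
      rw [e, Real.cos_two_mul]
      push_cast
      rw [← hx, ← hg2]
      simp only [lam]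
      field_simp
    rcases totient_le_two (by omega) (totient_le_two_of_cos (by omega) hcos) with
      h | h | h | h | h
    · omega
    all_goals subst h
    · simp [hm]
    · simp [hm]
    · simp [hm]
    · exfalso
      obtain ⟨y, hy⟩ := hrat 2 (by norm_num) (by omega)
      have h1 : ang n 1 = Real.pi / 6 := by unfold ang; rw [hm]; norm_num; ring
      have h2 : ang n 2 = Real.pi / 3 := by unfold ang; rw [hm]; norm_num; ring
      simp only [lam, h1, h2, Real.cos_pi_div_six, Real.cos_pi_div_three] at hx hy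
      have h3 : √3 = ((x / y : ℚ) : ℝ) := by
        push_cast; rw [← hx, ← hy]; field_simp
      exact (Nat.prime_three.irrational_sqrt) ⟨x / y, by exact_mod_cast h3.symm⟩
  · -- odd length
    obtain rfl : q = p := hqp hodd
    obtain ⟨r, hr, h⟩ := hquad 1 le_rfl (by omega)
    have hgq : g = q := (hqg hodd).symm
    have hc : Nat.totient n ≤ 4 := by
      refine totient_le_four_of_cos (by omega)
        (a := 4 * (q : ℚ) ^ 2 * ((n : ℚ) * r - 2 * Fintype.card Ω))
        (b := -2 * (q : ℚ) * ((n : ℚ) * r * (((q : ℚ) - 1) * ((q : ℚ) - 1))))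
        (c := 8 * (q : ℚ) * q * Fintype.card Ω - (n : ℚ) * r * (((q : ℚ) * q + 1) * (q + q))) ?_ ?_
      · have : (2 : ℚ) ≤ q := by exact_mod_cast hq
        have hn' : (n : ℚ) ≠ 0 := by exact_mod_cast (by omega : n ≠ 0)
        have hr' : (r : ℚ) ≠ 0 := by exact_mod_cast (by omega : r ≠ 0)
        have : (q : ℚ) - 1 ≠ 0 := by linarith
        simp [this, hn', hr', (by linarith : (q : ℚ) ≠ 0)]
      · push_cast
        simp only [lam, hgq, ang, Nat.cast_one, mul_one] at h
        linear_combination h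
    rcases totient_le_four_odd hodd hc with h' | h' | h'
    · omega
    · simp [h']
    exfalso
    subst h'
    have hl : lam 1 ^ 2 + (q : ℝ) * lam 1 - (q : ℝ) ^ 2 = 0 := by
      have e : ang 5 1 = 2 * (Real.pi / 5) := by unfold ang; push_cast; ring
      simp only [lam, hgq, e, Real.cos_two_mul, Real.cos_pi_div_five]
      have h5 : √5 ^ 2 = 5 := Real.sq_sqrt (by norm_num)
      linear_combination (q : ℝ) ^ 2 * (√5 ^ 2 / 16 + √5 / 4 - 1 / 16) * h5
    have hir : ¬ IsRat (lam 1) := by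
      rintro ⟨x, hx⟩
      have hq' : (q : ℚ) ≠ 0 := by exact_mod_cast (by omega : q ≠ 0)
      refine (show Nat.Prime 5 by norm_num).irrational_sqrt ⟨2 * x / q + 1, ?_⟩
      have e : ang 5 1 = 2 * (Real.pi / 5) := by unfold ang; push_cast; ring
      simp only [lam, hgq, e, Real.cos_two_mul, Real.cos_pi_div_five] at hx
      push_cast
      rw [← hx]
      field_simp
      have h5 : √5 ^ 2 = 5 := Real.sq_sqrt (by norm_num)
      linear_combination 8 * h5
    obtain ⟨e1, e0⟩ := eq_zero_of_irrat hir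
      (a := -(5 * (r : ℚ) * (((q : ℚ) - 1) * ((q : ℚ) - 1)))
        - (q : ℚ) * (5 * r - 2 * Fintype.card Ω))
      (b := 8 * (q : ℚ) * q * Fintype.card Ω - 5 * (r : ℚ) * (((q : ℚ) * q + 1) * (q + q))
        + (q : ℚ) ^ 2 * (5 * r - 2 * Fintype.card Ω))
      (by push_cast; push_cast at h; linear_combination h - (5 * (r : ℝ) - 2 * Fintype.card Ω) * hl)
    have hr0 : (r : ℚ) ≠ 0 := by exact_mod_cast (by omega : r ≠ 0)
    have hq1 : (2 : ℚ) ≤ q := by exact_mod_cast hq
    have h3 : (r : ℚ) * q * ((q : ℚ) - 1) ^ 2 = 0 := by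
      linear_combination (1 / 5 : ℚ) * e0 - (3 / 5 : ℚ) * (q : ℚ) * e1
    rcases mul_eq_zero.1 h3 with h4 | h4
    · rcases mul_eq_zero.1 h4 with h5 | h5
      · exact hr0 h5
      · linarith
    · have := pow_eq_zero_iff (n := 2) (by norm_num) |>.1 h4
      linarith

end Cfsg.Agent.Lib.FeitHigman.Main
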