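import Mathlib

/-!
# Polynomials and trigonometric sums for the theorem of Feit and Higman

The polynomials `U g2 k` with `U (k+2) = X * U (k+1) - g2 * U k`, their values at `2 g cos θ`,
orthogonality of sines, and degree bounds for `cos (2π/n)`.
-/

namespace Cfsg.Agent.Lib.FeitHigman.Poly

open Polynomial Finset

/-- Rescaled Chebyshev polynomials of the second kind. -/
noncomputable def U {K : Type*} [CommRing K] (g2 : K) : ℕ → K[X]
  | 0 => 0
  | 1 => 1
  | k + 2 => X * U g2 (k + 1) - C g2 * U g2 k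

section
variable {K : Type*} [CommRing K] (g2 : K)

theorem U_zero : U g2 0 = 0 := rfl

theorem U_one : U g2 1 = 1 := rfl

theorem U_succ_succ (k : ℕ) : U g2 (k + 2) = X * U g2 (k + 1) - C g2 * U g2 k := rfl

theorem X_mul_U (k : ℕ) : X * U g2 (k + 1) = U g2 (k + 2) + C g2 * U g2 k := by
  rw [U_succ_succ]; ring

theorem map_U {L : Type*} [CommRing L] (φ : K →+* L) : ∀ k, (U g2 k).map φ = U (φ g2) k
  | 0 => by simp [U]
  | 1 => by simp [U]
  | k + 2 => by simp [U, map_U φ k, map_U φ (k + 1)]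

theorem degree_U [Nontrivial K] :
    ∀ k, (U g2 (k + 1)).degree = k ∧ (U g2 (k + 1)).Monic ∧ (U g2 k).degree < k := by
  intro k
  induction k with
  | zero => simp [U]
  | succ k ih =>
    obtain ⟨h1, h2, h3⟩ := ih
    have hX : (X * U g2 (k + 1)).degree = ((k + 1 : ℕ) : WithBot ℕ) := by
      rw [h2.degree_mul, degree_X, h1]
      push_cast; rw [add_comm]
    have hlt : (C g2 * U g2 k).degree < (X * U g2 (k + 1)).degree := by
      rw [hX]
      calc (C g2 * U g2 k).degree ≤ (C g2).degree + (U g2 k).degree := degree_mul_le _ _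
        _ ≤ 0 + (U g2 k).degree := by gcongr; exact degree_C_le
        _ < _ := by
          rw [zero_add]
          exact h3.trans (by exact_mod_cast Nat.lt_succ_self k)
    refine ⟨?_, ?_, ?_⟩
    · rw [U_succ_succ, degree_sub_eq_left_of_degree_lt hlt, hX]
    · rw [U_succ_succ]
      exact (monic_X.mul h2).sub_of_left hlt
    · rw [h1]; exact_mod_cast Nat.lt_succ_self k

theorem monic_U [Nontrivial K] (k : ℕ) : (U g2 (k + 1)).Monic := (degree_U g2 k).2.1

theorem natDegree_U [Nontrivial K] (k : ℕ) : (U g2 (k + 1)).natDegree = k :=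
  natDegree_eq_of_degree_eq_some (degree_U g2 k).1

theorem natDegree_U_le [Nontrivial K] (k : ℕ) : (U g2 k).natDegree ≤ k - 1 := by
  cases k with
  | zero => simp [U]
  | succ k => simp [natDegree_U]

end

theorem U_eval_cos (g : ℝ) (θ : ℝ) : ∀ k : ℕ,
    (U (g ^ 2) k).eval (2 * g * Real.cos θ) * (g * Real.sin θ) = g ^ k * Real.sin (k * θ)
  | 0 => by simp [U]
  | 1 => by simp [U]
  | k + 2 => by
    have h0 := U_eval_cos g θ k
    have h1 := U_eval_cos g θ (k + 1)
    rw [U_succ_succ, eval_sub, eval_mul, eval_mul, eval_X, eval_C, sub_mul,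
      mul_assoc (2 * g * Real.cos θ), mul_assoc (g ^ 2), h0, h1]
    have e1 := Real.sin_add (((k + 1 : ℕ) : ℝ) * θ) θ
    have e2 := Real.sin_sub (((k + 1 : ℕ) : ℝ) * θ) θ
    have a1 : ((k + 1 : ℕ) : ℝ) * θ + θ = ((k + 2 : ℕ) : ℝ) * θ := by push_cast; ring
    have a2 : ((k + 1 : ℕ) : ℝ) * θ - θ = ((k : ℕ) : ℝ) * θ := by push_cast; ring
    rw [a1] at e1; rw [a2] at e2
    rw [e1, e2]; ring

/-- `∑_{l < n} cos (2π j l / n) = 0` for `0 < j < n`. -/
theorem sum_cos_eq_zero {n j : ℕ} (hj0 : 0 < j) (hjn : j < n) :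
    ∑ l ∈ range n, Real.cos (2 * Real.pi * j * l / n) = 0 := by
  set α : ℝ := 2 * Real.pi * j / n
  have hn : (n : ℝ) ≠ 0 := by exact_mod_cast (by omega : n ≠ 0)
  have hs : Real.sin (α / 2) ≠ 0 := by
    refine (Real.sin_pos_of_pos_of_lt_pi ?_ ?_).ne'
    · have : (0 : ℝ) < j := by exact_mod_cast hj0
      have : (0 : ℝ) < n := by exact_mod_cast (by omega : 0 < n)
      positivity
    · have h1 : α / 2 = Real.pi * ((j : ℝ) / n) := by simp only [α]; ring
      have h2 : (j : ℝ) / n < 1 := by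
        rw [div_lt_one (by exact_mod_cast (by omega : 0 < n))]; exact_mod_cast hjn
      rw [h1]; nlinarith [Real.pi_pos]
  have key : ∀ l : ℕ, 2 * Real.sin (α / 2) * Real.cos (2 * Real.pi * j * l / n)
      = Real.sin ((((l + 1 : ℕ) : ℝ) - 1 / 2) * α) - Real.sin (((l : ℝ) - 1 / 2) * α) := by
    intro l
    have e1 := Real.sin_add ((l : ℝ) * α) (α / 2)
    have e2 := Real.sin_sub ((l : ℝ) * α) (α / 2)
    rw [show (((l + 1 : ℕ) : ℝ) - 1 / 2) * α = (l : ℝ) * α + α / 2 by push_cast; ring,
      show ((l : ℝ) - 1 / 2) * α = (l : ℝ) * α - α / 2 by ring, e1, e2,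
      show 2 * Real.pi * j * l / n = (l : ℝ) * α by simp only [α]; ring]
    ring
  have h : 2 * Real.sin (α / 2) * ∑ l ∈ range n, Real.cos (2 * Real.pi * j * l / n) = 0 := by
    rw [Finset.mul_sum, Finset.sum_congr rfl fun l _ => key l,
      Finset.sum_range_sub (f := fun l : ℕ => Real.sin (((l : ℝ) - 1 / 2) * α))]
    have e : ((n : ℝ) - 1 / 2) * α = ((0 : ℕ) - 1 / 2 : ℝ) * α + (j : ℕ) * (2 * Real.pi) := by
      simp only [α, Nat.cast_zero]; field_simp; ring
    simp only [e, Real.sin_add_nat_mul_two_pi, sub_self]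
  simpa [hs] using h

/-- Orthogonality of sines. -/
theorem sum_sin_mul_sin {n k : ℕ} (hk0 : 1 ≤ k) (hk : 2 * k + 1 ≤ n) :
    ∑ l ∈ Icc 1 ((n - 1) / 2),
      Real.sin (k * (2 * Real.pi * l / n)) * Real.sin (2 * Real.pi * l / n)
    = if k = 1 then (n : ℝ) / 4 else 0 := by
  set F : ℕ → ℝ := fun l =>
    Real.sin (k * (2 * Real.pi * l / n)) * Real.sin (2 * Real.pi * l / n)
  have hn : (n : ℝ) ≠ 0 := by exact_mod_cast (by omega : n ≠ 0)
  have hrefl : ∀ l, l ≤ n → F (n - l) = F l := by
    intro l hl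
    have e1 : (k : ℝ) * (2 * Real.pi * ((n - l : ℕ) : ℝ) / n)
        = (k : ℕ) * (2 * Real.pi) - (k : ℝ) * (2 * Real.pi * l / n) := by
      rw [Nat.cast_sub hl]; field_simp
    have e2 : 2 * Real.pi * ((n - l : ℕ) : ℝ) / n = 2 * Real.pi - 2 * Real.pi * l / n := by
      rw [Nat.cast_sub hl]; field_simp
    simp only [F]
    rw [e1, e2, Real.sin_nat_mul_two_pi_sub, Real.sin_two_pi_sub]
    ring
  have hF0 : F 0 = 0 := by simp [F]
  have hall : ∑ l ∈ range n, F l = 2 * ∑ l ∈ Icc 1 ((n - 1) / 2), F l := by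
    set c := (n - 1) / 2
    have hsplit : range n = {0} ∪ Icc 1 c ∪ (Icc 1 c).image (fun l => n - l)
        ∪ (range n).filter (fun l => 2 * l = n) := by
      ext l
      simp only [mem_range, mem_union, mem_singleton, mem_Icc, mem_image, mem_filter]
      constructor
      · intro hl
        rcases Nat.lt_trichotomy (2 * l) n with h | h | h
        · left; left
          rcases Nat.eq_zero_or_pos l with h' | h'
          · left; exact h'
          · right; omega
        · right; exact ⟨hl, h⟩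
        · left; right; exact ⟨n - l, by omega, by omega⟩
      · rintro (((h | h) | ⟨a, h, rfl⟩) | h) <;> omega
    rw [hsplit, Finset.sum_union, Finset.sum_union, Finset.sum_union, Finset.sum_image]
    · have hmid : ∑ l ∈ (range n).filter (fun l => 2 * l = n), F l = 0 := by
        refine Finset.sum_eq_zero fun l hl => ?_
        have h2 : 2 * l = n := (mem_filter.1 hl).2
        have : 2 * Real.pi * (l : ℝ) / n = Real.pi := by
          have : (n : ℝ) = 2 * l := by exact_mod_cast h2.symm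
          rw [div_eq_iff hn, this]; ring
        simp [F, this]
      rw [hmid, Finset.sum_singleton, hF0,
        Finset.sum_congr rfl fun l (hl : l ∈ Icc 1 c) => hrefl l (by
          have := mem_Icc.1 hl; omega)]
      ring
    · intro a ha b hb
      simp only [coe_Icc, Set.mem_Icc] at ha hb
      simp only; omega
    all_goals
      rw [Finset.disjoint_left]
      intro a ha hb
      simp only [mem_range, mem_union, mem_singleton, mem_Icc, mem_image, mem_filter] at ha hb
      omega
  have hprod : ∀ l : ℕ, F l = (Real.cos (2 * Real.pi * (k - 1 : ℕ) * l / n)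
      - Real.cos (2 * Real.pi * (k + 1 : ℕ) * l / n)) / 2 := by
    intro l
    have e1 : 2 * Real.pi * ((k - 1 : ℕ) : ℝ) * l / n
        = k * (2 * Real.pi * l / n) - 2 * Real.pi * l / n := by
      rw [Nat.cast_sub hk0]; push_cast; ring
    have e2 : 2 * Real.pi * ((k + 1 : ℕ) : ℝ) * l / n
        = k * (2 * Real.pi * l / n) + 2 * Real.pi * l / n := by
      push_cast; ring
    rw [e1, e2, Real.cos_sub, Real.cos_add]; simp only [F]; ring
  have hsum : ∑ l ∈ range n, F l = if k = 1 then (n : ℝ) / 2 else 0 := by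
    rw [Finset.sum_congr rfl fun l _ => hprod l, ← Finset.sum_div, Finset.sum_sub_distrib,
      sum_cos_eq_zero (j := k + 1) (by omega) (by omega)]
    split_ifs with h
    · subst h; simp
    · rw [sum_cos_eq_zero (j := k - 1) (by omega) (by omega)]; simp
  rw [hall] at hsum
  split_ifs with h <;> simp only [h, if_true, if_false] at hsum <;> linarith

/-- If `φ n ≤ 4` then `n ∣ 120`. -/
theorem dvd_of_totient_le_four {n : ℕ} (hn : 0 < n) (h : Nat.totient n ≤ 4) : n ∣ 120 := by
  rw [Nat.dvd_iff_prime_pow_dvd_dvd]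
  intro p k hp hdvd
  rcases Nat.eq_zero_or_pos k with rfl | hk
  · simp
  have hle : Nat.totient (p ^ k) ≤ 4 :=
    (Nat.le_of_dvd (Nat.totient_pos.2 hn) (Nat.totient_dvd_of_dvd hdvd)).trans h
  rw [Nat.totient_prime_pow hp hk] at hle
  have h2 := hp.two_le
  have hp5 : p ≤ 5 := by
    have : 1 ≤ p ^ (k - 1) := Nat.one_le_pow _ _ (by omega)
    have : 1 * (p - 1) ≤ p ^ (k - 1) * (p - 1) := Nat.mul_le_mul_right _ this
    omega
  have hk4 : k ≤ 3 := by
    by_contra hk4
    have h3 : p ^ 3 ≤ p ^ (k - 1) := Nat.pow_le_pow_right (by omega) (by omega)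
    have h8 : 2 ^ 3 ≤ p ^ 3 := Nat.pow_le_pow_left h2 3
    have : 8 * 1 ≤ p ^ (k - 1) * (p - 1) := Nat.mul_le_mul (by omega) (by omega)
    omega
  interval_cases p <;> interval_cases k <;> first | decide | omega

theorem totient_le_two {n : ℕ} (hn : 0 < n) (h : Nat.totient n ≤ 2) :
    n = 1 ∨ n = 2 ∨ n = 3 ∨ n = 4 ∨ n = 6 := by
  have hd := dvd_of_totient_le_four hn (h.trans (by norm_num))
  have hle : n ≤ 120 := Nat.le_of_dvd (by norm_num) hd
  have hmem : n ∈ Nat.divisors 120 := Nat.mem_divisors.2 ⟨hd, by norm_num⟩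
  have hdiv : Nat.divisors 120 =
      ({1, 2, 3, 4, 5, 6, 8, 10, 12, 15, 20, 24, 30, 40, 60, 120} : Finset ℕ) := by decide
  rw [hdiv] at hmem
  simp only [Finset.mem_insert, Finset.mem_singleton] at hmem
  rcases hmem with rfl | rfl | rfl | rfl | rfl | rfl | rfl | rfl | rfl | rfl | rfl | rfl | rfl |
    rfl | rfl | rfl <;> revert h <;> decide

theorem totient_le_four_odd {n : ℕ} (hn : Odd n) (h : Nat.totient n ≤ 4) :
    n = 1 ∨ n = 3 ∨ n = 5 := by
  have hd := dvd_of_totient_le_four hn.pos h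
  have h15 : n ∣ 15 := by
    have hc : Nat.Coprime n 8 := by
      have : Nat.Coprime n (2 ^ 3) := Nat.Coprime.pow_right 3 hn.coprime_two_right
      exact this
    exact hc.dvd_of_dvd_mul_left (by simpa using hd)
  have hmem : n ∈ Nat.divisors 15 := Nat.mem_divisors.2 ⟨h15, by norm_num⟩
  rw [show Nat.divisors 15 = ({1, 3, 5, 15} : Finset ℕ) by decide] at hmem
  simp only [Finset.mem_insert, Finset.mem_singleton] at hmem
  rcases hmem with rfl | rfl | rfl | rfl <;> revert h <;> decide

/-- A monic-or-not rational polynomial killing a primitive `n`-th root of unity has degree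
at least `φ n`. -/
theorem totient_le_natDegree {n : ℕ} (hn : 0 < n) {P : ℚ[X]} (hP : P ≠ 0)
    (h : aeval (Complex.exp (2 * Real.pi * Complex.I / n)) P = 0) :
    Nat.totient n ≤ P.natDegree := by
  have hζ := Complex.isPrimitiveRoot_exp n hn.ne'
  rw [← Polynomial.natDegree_cyclotomic n ℚ, cyclotomic_eq_minpoly_rat hζ hn]
  exact natDegree_le_of_dvd (minpoly.dvd ℚ _ h) hP

theorem two_cos_mul_exp {n : ℕ} :
    2 * ((Real.cos (2 * Real.pi / n) : ℝ) : ℂ) * Complex.exp (2 * Real.pi * Complex.I / n)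
      = Complex.exp (2 * Real.pi * Complex.I / n) ^ 2 + 1 := by
  have harg : 2 * (Real.pi : ℂ) * Complex.I / n = ((2 * Real.pi / n : ℝ) : ℂ) * Complex.I := by
    push_cast; ring
  rw [harg, Complex.ofReal_cos, Complex.two_cos, add_mul, sq, neg_mul, Complex.exp_neg,
    inv_mul_cancel₀ (Complex.exp_ne_zero _)]

/-- If `cos (2π/n)` is a root of a rational quadratic with non-zero linear term, `φ n ≤ 4`. -/
theorem totient_le_four_of_cos {n : ℕ} (hn : 0 < n) {a b c : ℚ} (hb : b ≠ 0)
    (h : (a : ℝ) * Real.cos (2 * Real.pi / n) ^ 2 + b * Real.cos (2 * Real.pi / n) + c = 0) :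
    Nat.totient n ≤ 4 := by
  let P : ℚ[X] := C a * (X ^ 2 + 1) ^ 2 + C (2 * b) * X * (X ^ 2 + 1) + C (4 * c) * X ^ 2
  have hP : P ≠ 0 := by
    intro h0
    have := congrArg (fun Q : ℚ[X] => Q.coeff 3) h0
    have e : P = C a * X ^ 4 + C (2 * b) * X ^ 3 + C (2 * a + 4 * c) * X ^ 2
        + C (2 * b) * X + C a := by
      simp only [P, map_add, map_mul, map_ofNat]; ring
    simp only [e, coeff_add, coeff_C_mul, coeff_X_pow, coeff_X, coeff_zero, coeff_C] at this
    norm_num at this
    exact hb this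
  have hdeg : P.natDegree ≤ 4 := by simp only [P]; compute_degree
  refine le_trans (totient_le_natDegree hn hP ?_) hdeg
  have h2 := two_cos_mul_exp (n := n)
  set ζ := Complex.exp (2 * Real.pi * Complex.I / n)
  set x : ℂ := ((Real.cos (2 * Real.pi / n) : ℝ) : ℂ)
  have h' : (a : ℂ) * x ^ 2 + b * x + c = 0 := by
    have := congrArg (fun r : ℝ => (r : ℂ)) h
    simpa [x] using this
  simp only [P, map_add, map_mul, map_pow, aeval_X, aeval_C, map_one, eq_ratCast, ← h2]
  push_cast
  linear_combination (4 * ζ ^ 2) * h'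

/-- If `cos (2π/n)` is rational, `φ n ≤ 2`. -/
theorem totient_le_two_of_cos {n : ℕ} (hn : 0 < n) {r : ℚ}
    (h : Real.cos (2 * Real.pi / n) = r) : Nat.totient n ≤ 2 := by
  let P : ℚ[X] := X ^ 2 - C (2 * r) * X + 1
  have hP : P ≠ 0 := by
    intro h0
    have := congrArg (fun Q : ℚ[X] => Q.coeff 2) h0
    simp [P, coeff_one] at this
  have hdeg : P.natDegree ≤ 2 := by simp only [P]; compute_degree
  refine le_trans (totient_le_natDegree hn hP ?_) hdeg
  have h2 := two_cos_mul_exp (n := n)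
  rw [h] at h2
  simp only [P, map_add, map_sub, map_mul, map_pow, aeval_X, aeval_C, map_one, eq_ratCast]
  push_cast at h2 ⊢
  linear_combination -h2

end Cfsg.Agent.Lib.FeitHigman.Poly
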