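import Cfsg.Agent.Lib.FeitHigman.Main
import Cfsg.Agent.Lib.FeitHigman.Dihedral
import Cfsg.Agent.Lib.FeitHigman.Cells

/-!
# The theorem of Feit and Higman for (B, N)-pairs of rank 2
-/

namespace Cfsg.Agent.Lib.FeitHigman.RankTwo

open Cfsg.Agent.Lib.BNPair.Basic Cfsg.Agent.Lib.FeitHigman.Alt Cfsg.Agent.Lib.FeitHigman.Cells
  Cfsg.Agent.Lib.FeitHigman.Dihedral Matrix

variable {G : Type*} [Group G] {P : Cfsg.BNPair G}

theorem normal_inf (P : Cfsg.BNPair G) : ((P.B ⊓ P.N).subgroupOf P.N).Normal := by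
  constructor
  intro x hx n
  rw [Subgroup.mem_subgroupOf] at hx ⊢
  obtain ⟨hB, hN⟩ := Subgroup.mem_inf.1 hx
  simp only [Subgroup.coe_mul, Subgroup.coe_inv]
  exact Subgroup.mem_inf.2 ⟨P.conj_mem n n.2 x ⟨hB, hN⟩,
    P.N.mul_mem (P.N.mul_mem n.2 hN) (P.N.inv_mem n.2)⟩

attribute [local instance] normal_inf

/-- The Weyl group. -/
abbrev W (P : Cfsg.BNPair G) := P.N ⧸ (P.B ⊓ P.N).subgroupOf P.N

theorem mk_eq_iff {n m : P.N} : (n : W P) = (m : W P) ↔ SameW P (n : G) m := by
  rw [QuotientGroup.eq, Subgroup.mem_subgroupOf, Subgroup.mem_inf]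
  simp only [Subgroup.coe_mul, Subgroup.coe_inv, SameW]
  exact ⟨fun h => h.1, fun h => ⟨h, P.N.mul_mem (P.N.inv_mem n.2) m.2⟩⟩

theorem mk_eq_one_iff {n : P.N} : (n : W P) = 1 ↔ (n : G) ∈ P.B := by
  rw [QuotientGroup.eq_one_iff, Subgroup.mem_subgroupOf, Subgroup.mem_inf]
  exact ⟨fun h => h.1, fun h => ⟨h, n.2⟩⟩

/-- The length on the Weyl group. -/
noncomputable def lenW (P : Cfsg.BNPair G) (w : W P) : ℕ := len P (w.out : G)

theorem lenW_mk (n : P.N) : lenW P (n : W P) = len P (n : G) :=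
  len_congr (Quotient.out (n : W P)).2 n.2 (mk_eq_iff.1 (QuotientGroup.out_eq' (n : W P)))

/-- The matrix of an element of the Weyl group. -/
noncomputable def matW (P : Cfsg.BNPair G) (w : W P) : Matrix (G ⧸ P.B) (G ⧸ P.B) ℝ :=
  cellMat P (w.out : G)

theorem matW_mk (n : P.N) : matW P (n : W P) = cellMat P (n : G) :=
  (cellMat_congr (mk_eq_iff.1 (QuotientGroup.out_eq' (n : W P)))).symm

/-- The image of a generator. -/
def gen {s : G} (hs : s ∈ P.S) : W P := ((⟨s, S_subset_N hs⟩ : P.N) : W P)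

theorem gen_mul_self {s : G} (hs : s ∈ P.S) : gen hs * gen hs = 1 := by
  rw [gen, ← QuotientGroup.mk_mul, mk_eq_one_iff]
  exact P.sq_mem s hs

theorem lenW_cases {s : G} (hs : s ∈ P.S) (w : W P) :
    lenW P (gen hs * w) = lenW P w + 1 ∨ lenW P (gen hs * w) + 1 = lenW P w := by
  obtain ⟨n, rfl⟩ := QuotientGroup.mk_surjective w
  rw [gen, ← QuotientGroup.mk_mul, lenW_mk, lenW_mk]
  exact len_mul_left_cases hs n.2

theorem exists_lenFun {s r : G} (hs : s ∈ P.S) (hr : r ∈ P.S) (hall : ∀ x ∈ P.S, x = s ∨ x = r) :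
    ∃ F : LenFun (W P) (gen hs) (gen hr), F.L = lenW P := by
  refine ⟨⟨lenW P, ?_, ?_, fun w => ⟨lenW_cases hs w, lenW_cases hr w⟩, ?_⟩, rfl⟩
  · rw [show (1 : W P) = ((1 : P.N) : W P) from rfl, lenW_mk]
    exact len_one
  · intro w hw
    obtain ⟨n, rfl⟩ := QuotientGroup.mk_surjective w
    rw [lenW_mk, len_eq_zero_iff n.2] at hw
    exact mk_eq_one_iff.2 hw
  · intro w hw
    obtain ⟨n, rfl⟩ := QuotientGroup.mk_surjective w
    obtain ⟨x, hx, hlt⟩ := exists_left_descent n.2 (fun h => hw (mk_eq_one_iff.2 h))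
    rcases hall x hx with rfl | rfl
    · left; rw [gen, ← QuotientGroup.mk_mul, lenW_mk, lenW_mk, Subgroup.coe_mul]; dsimp only; omega
    · right; rw [gen, ← QuotientGroup.mk_mul, lenW_mk, lenW_mk, Subgroup.coe_mul]; dsimp only; omega

variable [Fintype (G ⧸ P.B)]

theorem trace_matW {w : W P} (hw : w ≠ 1) : trace (matW P w) = 0 := by
  obtain ⟨n, rfl⟩ := QuotientGroup.mk_surjective w
  rw [matW_mk]
  exact trace_cellMat n.2 fun h => hw (mk_eq_one_iff.2 h)

theorem matW_mul {s : G} (hs : s ∈ P.S) {w : W P} (h : lenW P w ≤ lenW P (gen hs * w)) :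
    cellMat P s * matW P w = matW P (gen hs * w) := by
  obtain ⟨n, rfl⟩ := QuotientGroup.mk_surjective w
  rw [gen, ← QuotientGroup.mk_mul, lenW_mk, lenW_mk] at h
  rw [gen, ← QuotientGroup.mk_mul, matW_mk, matW_mk]
  exact cellMat_mul hs n.2 h

theorem alt_matW [DecidableEq (G ⧸ P.B)] {n : ℕ} : ∀ k {s r : G} (hs : s ∈ P.S) (hr : r ∈ P.S)
    (F : LenFun (W P) (gen hs) (gen hr)), F.L = lenW P → n = orderOf (gen hs * gen hr) →
    1 ≤ k → k ≤ n → alt (cellMat P s) (cellMat P r) k = matW P (alt (gen hs) (gen hr) k) := by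
  intro k
  induction k with
  | zero => intros; omega
  | succ k ih =>
    intro s r hs hr F hF hn _ hk
    rcases Nat.eq_zero_or_pos k with rfl | hk0
    · rw [alt_one, alt_one]; exact (matW_mk (⟨s, S_subset_N hs⟩ : P.N)).symm
    have hn' : n = orderOf (gen hr * gen hs) := by
      rw [hn, ← orderOf_inv (gen hs * gen hr), _root_.mul_inv_rev,
        inv_eq_of_mul_eq_one_right (gen_mul_self hr), inv_eq_of_mul_eq_one_right (gen_mul_self hs)]
    have h1 := L_alt (gen_mul_self hr) (gen_mul_self hs) F.swap hn' (k := k) (by omega)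
    have h2 := L_alt (gen_mul_self hs) (gen_mul_self hr) F hn (k := k + 1) hk
    rw [alt_succ] at h2
    simp only [LenFun.swap, hF] at h1 h2
    rw [alt_succ, alt_succ, ih hr hs F.swap hF hn' hk0 (by omega)]
    exact matW_mul hs (by omega)

theorem index_mem [Finite G] (h2 : P.rank = 2) :
    ((P.B ⊓ P.N).subgroupOf P.N).index ∈ ({4, 6, 8, 12, 16} : Set ℕ) := by
  classical
  obtain ⟨s, r, hne, hS⟩ := Set.ncard_eq_two.1
    (show P.S.ncard = 2 by rw [← Nat.card_coe_set_eq]; exact h2)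
  have hs : s ∈ P.S := by simp [hS]
  have hr : r ∈ P.S := by simp [hS]
  have hall : ∀ x ∈ P.S, x = s ∨ x = r := fun x hx => by simpa [hS] using hx
  obtain ⟨F, hF⟩ := exists_lenFun hs hr hall
  set n := orderOf (gen hs * gen hr) with hn
  have hn' : n = orderOf (gen hr * gen hs) := by
    rw [hn, ← orderOf_inv (gen hs * gen hr), _root_.mul_inv_rev,
      inv_eq_of_mul_eq_one_right (gen_mul_self hr), inv_eq_of_mul_eq_one_right (gen_mul_self hs)]
  have hsa := gen_mul_self hs
  have hrb := gen_mul_self hr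
  rw [Subgroup.index, card_eq hsa hrb F hn]
  have hn2 : 2 ≤ n := by
    have h0 : 0 < n := orderOf_pos _
    rcases Nat.lt_or_ge n 2 with h | h
    · exfalso
      have h1 : gen hs * gen hr = 1 := orderOf_eq_one_iff.1 (by omega)
      have e : gen hs = gen hr := by
        rw [eq_inv_of_mul_eq_one_left h1, inv_eq_of_mul_eq_one_right hrb]
      exact hne (P.inj s hs r hr (mk_eq_iff.1 e))
    · exact h
  rcases hn2.lt_or_eq with hn3 | hn3
  · have htrace : ∀ {s r : G} (hs : s ∈ P.S) (hr : r ∈ P.S)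
        (F : LenFun (W P) (gen hs) (gen hr)), F.L = lenW P → n = orderOf (gen hs * gen hr) →
        ∀ j, 1 ≤ j → j ≤ n → trace (alt (cellMat P s) (cellMat P r) j) = 0 := by
      intro s r hs hr F hF hn j hj hjn
      rw [alt_matW j hs hr F hF hn hj hjn]
      refine trace_matW fun e => ?_
      have := L_alt (gen_mul_self hs) (gen_mul_self hr) F hn hjn
      rw [e, F.L_one] at this
      omega
    have heq : alt (cellMat P s) (cellMat P r) n = alt (cellMat P r) (cellMat P s) n := by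
      rw [alt_matW n hs hr F hF hn (by omega) le_rfl,
        alt_matW n hr hs F.swap hF hn' (by omega) le_rfl]
      congr 1
      have := (mirror hsa hrb hn n (by omega)).1
      rwa [show 2 * n - n = n by omega] at this
    have : Nonempty (G ⧸ P.B) := ⟨((1 : G) : G ⧸ P.B)⟩
    have hmem := Main.feit_higman_matrix hn3 (two_le_index hs) (two_le_index hr)
      (transpose_cellMat hs) (transpose_cellMat hr) (cellMat_sq hs) (cellMat_sq hr)
      (htrace hs hr F hF hn) (htrace hr hs F.swap hF hn') heq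
    simp only [Set.mem_insert_iff, Set.mem_singleton_iff] at hmem ⊢
    omega
  · simp [← hn3]

end Cfsg.Agent.Lib.FeitHigman.RankTwo
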