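import Cfsg.Agent.Lib.FeitHigman.Trace

/-!
# Spectral consequences and multiplicities
-/

namespace Cfsg.Agent.Lib.FeitHigman.Spectral

open Polynomial Matrix Finset Cfsg.Agent.Lib.FeitHigman.Alt Cfsg.Agent.Lib.FeitHigman.Poly
  Cfsg.Agent.Lib.FeitHigman.Algebra Cfsg.Agent.Lib.FeitHigman.Trace

theorem exists_eigen {Ω : Type*} [Fintype Ω] [DecidableEq Ω] {u : Matrix Ω Ω ℝ} (hu : uᵀ = u) :
    ∃ e : Ω → ℝ, (∀ h : ℝ[X], trace (aeval u h) = ∑ i, h.eval (e i)) ∧
      ∀ h : ℝ[X], aeval u h = 0 → ∀ i, h.eval (e i) = 0 := by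
  have hH : u.IsHermitian := by
    rw [Matrix.IsHermitian, conjTranspose_eq_transpose_of_trivial, hu]
  have hs := hH.spectral_theorem
  set e : Ω → ℝ := RCLike.ofReal ∘ hH.eigenvalues
  set φ := Unitary.conjStarAlgAut ℝ (Matrix Ω Ω ℝ) hH.eigenvectorUnitary
  have key : ∀ h : ℝ[X], aeval u h = φ (diagonal fun i => h.eval (e i)) := by
    intro h
    have h1 : aeval (φ.toAlgEquiv.toAlgHom (diagonal e)) h
        = φ.toAlgEquiv.toAlgHom (aeval (diagonal e) h) := aeval_algHom_apply _ _ _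
    have h2 : aeval (diagonalAlgHom ℝ e) h = diagonalAlgHom ℝ (aeval e h) := aeval_algHom_apply _ _ _
    have h3 : aeval e h = fun i => h.eval (e i) := by
      funext i
      have := aeval_algHom_apply (Pi.evalAlgHom ℝ (fun _ : Ω => ℝ) i) e h
      simp only [Pi.evalAlgHom_apply] at this
      rw [← this, coe_aeval_eq_eval]
    calc aeval u h = aeval (φ (diagonal e)) h := by rw [← hs]
      _ = φ (aeval (diagonal e) h) := h1
      _ = _ := by
        rw [show diagonal e = diagonalAlgHom ℝ e from rfl, h2, h3]; rfl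
  refine ⟨e, fun h => ?_, fun h h0 i => ?_⟩
  · rw [key, Unitary.conjStarAlgAut_apply, trace_mul_cycle]
    simp
  · rw [key, ← map_zero φ] at h0
    have := φ.injective h0
    rw [← diagonal_zero] at this
    exact congrFun (diagonal_injective this) i

/-- The polynomial whose roots are `2 g cos (2π l / n)`. -/
noncomputable def G {K : Type*} [CommRing K] (n : ℕ) (g2 q : K) : K[X] :=
  if Even n then U g2 (n / 2) else U g2 (n / 2 + 1) + C q * U g2 (n / 2)

theorem map_G {K L : Type*} [CommRing K] [CommRing L] (φ : K →+* L) (n : ℕ) (g2 q : K) :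
    (G n g2 q).map φ = G n (φ g2) (φ q) := by
  unfold G; split_ifs <;> simp [map_U]

theorem monic_G {K : Type*} [CommRing K] [Nontrivial K] {n : ℕ} (hn : 3 ≤ n) (g2 q : K) :
    (G n g2 q).Monic ∧ (G n g2 q).natDegree = (n - 1) / 2 := by
  obtain ⟨j, hj⟩ : ∃ j, n / 2 = j + 1 := ⟨n / 2 - 1, by omega⟩
  unfold G
  split_ifs with h
  · obtain ⟨m, rfl⟩ := h
    refine ⟨hj ▸ monic_U g2 j, ?_⟩
    rw [hj, natDegree_U]; omega
  · obtain ⟨m, rfl⟩ := Nat.not_even_iff_odd.1 h
    rw [hj]
    have hd : (C q * U g2 (j + 1)).degree < (U g2 (j + 1 + 1)).degree := by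
      rw [(degree_U g2 (j + 1)).1]
      calc _ ≤ (C q).degree + (U g2 (j + 1)).degree := degree_mul_le _ _
        _ ≤ 0 + (U g2 (j + 1)).degree := by gcongr; exact degree_C_le
        _ < _ := by rw [zero_add, (degree_U g2 j).1]; exact_mod_cast Nat.lt_succ_self j
    refine ⟨(monic_U g2 (j + 1)).add_of_left hd, ?_⟩
    rw [natDegree_eq_of_degree_eq_some
      ((degree_add_eq_left_of_degree_lt hd).trans (degree_U g2 (j + 1)).1)]
    omega

/-- The angle `2π l / n`. -/
noncomputable def ang (n l : ℕ) : ℝ := 2 * Real.pi * l / n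

theorem ang_mem {n l : ℕ} (hl : 1 ≤ l) (hl' : 2 * l < n) : 0 < ang n l ∧ ang n l < Real.pi := by
  have h1 : (0 : ℝ) < l := by exact_mod_cast hl
  have h2 : (2 : ℝ) * l < n := by exact_mod_cast hl'
  have h3 := Real.pi_pos
  unfold ang
  constructor
  · exact div_pos (by positivity) (by linarith)
  · rw [div_lt_iff₀ (by linarith)]; nlinarith

theorem sin_ang_ne {n l : ℕ} (hl : 1 ≤ l) (hl' : 2 * l < n) : Real.sin (ang n l) ≠ 0 :=
  (Real.sin_pos_of_pos_of_lt_pi (ang_mem hl hl').1 (ang_mem hl hl').2).ne'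

theorem eval_G {n l : ℕ} {g q : ℝ} (hg : g ≠ 0) (hodd : Odd n → q = g) (hl : 1 ≤ l)
    (hl' : 2 * l < n) : (G n (g ^ 2) q).eval (2 * g * Real.cos (ang n l)) = 0 := by
  have hs : g * Real.sin (ang n l) ≠ 0 := mul_ne_zero hg (sin_ang_ne hl hl')
  refine (mul_left_inj' hs).1 ?_
  rw [zero_mul]
  have hn0 : (n : ℝ) ≠ 0 := by exact_mod_cast (by omega : n ≠ 0)
  unfold G
  split_ifs with h
  · obtain ⟨m, rfl⟩ := h
    rw [U_eval_cos, show (((m + m) / 2 : ℕ) : ℝ) * ang (m + m) l = (l : ℕ) * Real.pi by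
      rw [show (m + m) / 2 = m by omega]
      push_cast at hn0
      have : (m : ℝ) ≠ 0 := by exact_mod_cast (by omega : m ≠ 0)
      unfold ang; push_cast; field_simp; ring, Real.sin_nat_mul_pi, mul_zero]
  · obtain ⟨m, rfl⟩ := Nat.not_even_iff_odd.1 h
    rw [show (2 * m + 1) / 2 = m by omega, eval_add, eval_mul, eval_C, add_mul, mul_assoc q,
      U_eval_cos, U_eval_cos, hodd ⟨m, rfl⟩,
      show ((m + 1 : ℕ) : ℝ) * ang (2 * m + 1) l =
        (l : ℕ) * (2 * Real.pi) - (m : ℝ) * ang (2 * m + 1) l by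
        unfold ang; push_cast at hn0 ⊢; field_simp; ring, Real.sin_nat_mul_two_pi_sub]
    ring

theorem G_eq_prod {n : ℕ} {g q : ℝ} (hn : 3 ≤ n) (hg : 0 < g) (hodd : Odd n → q = g) :
    G n (g ^ 2) q
      = ∏ l ∈ Finset.Icc 1 ((n - 1) / 2), (X - C (2 * g * Real.cos (ang n l))) := by
  set s := Finset.Icc 1 ((n - 1) / 2)
  set lam : ℕ → ℝ := fun l => 2 * g * Real.cos (ang n l)
  have hmem : ∀ l ∈ s, 1 ≤ l ∧ 2 * l < n := fun l hl => by
    have := Finset.mem_Icc.1 hl; omega
  have hinj : Set.InjOn lam s := by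
    intro x hx y hy hxy
    have hx' := ang_mem (hmem x hx).1 (hmem x hx).2
    have hy' := ang_mem (hmem y hy).1 (hmem y hy).2
    have h2 := mul_left_cancel₀ (by positivity : 2 * g ≠ 0) hxy
    have h3 := Real.injOn_cos ⟨hx'.1.le, hx'.2.le⟩ ⟨hy'.1.le, hy'.2.le⟩ h2
    unfold ang at h3
    have hn0 : (n : ℝ) ≠ 0 := by exact_mod_cast (by omega : n ≠ 0)
    field_simp at h3
    exact_mod_cast h3
  obtain ⟨hm, hdeg⟩ := monic_G (K := ℝ) hn (g ^ 2) q
  set P := ∏ l ∈ s, (X - C (lam l))
  have hPm : P.Monic := monic_prod_of_monic _ _ fun l _ => monic_X_sub_C _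
  have hPd : P.natDegree = (n - 1) / 2 := by
    rw [natDegree_prod_of_monic _ _ fun l _ => monic_X_sub_C _]
    simp [s]
  rw [← sub_eq_zero]
  by_contra h0
  have hlt : (G n (g ^ 2) q - P).degree < (G n (g ^ 2) q).degree :=
    degree_sub_lt (by rw [degree_eq_natDegree hm.ne_zero, degree_eq_natDegree hPm.ne_zero, hdeg,
      hPd]) hm.ne_zero (by rw [hm.leadingCoeff, hPm.leadingCoeff])
  rw [degree_eq_natDegree h0, degree_eq_natDegree hm.ne_zero, hdeg, Nat.cast_lt] at hlt
  refine h0 (eq_zero_of_natDegree_lt_card_of_eval_eq_zero' _ (s.image lam) ?_ ?_)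
  · intro x hx
    obtain ⟨l, hl, rfl⟩ := Finset.mem_image.1 hx
    rw [eval_sub, eval_G hg.ne' hodd (hmem l hl).1 (hmem l hl).2, eval_prod,
      Finset.prod_eq_zero hl (by simp), sub_zero]
  · rw [Finset.card_image_of_injOn hinj]
    simpa [s] using hlt

variable {Ω : Type*} [Fintype Ω] [DecidableEq Ω] {S R : Matrix Ω Ω ℝ} {q p : ℝ} {n : ℕ}

theorem transpose_centralElt (hSt : Sᵀ = S) (hRt : Rᵀ = R) (c a : ℝ) :
    (centralElt S R c a)ᵀ = centralElt S R c a := by
  simp only [centralElt, transpose_add, transpose_sub, transpose_smul, transpose_mul, hSt, hRt,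
    transpose_one]
  abel

theorem eq_of_odd [Nonempty Ω] (hS : S * S = (q - 1) • S + q • (1 : Matrix Ω Ω ℝ))
    (hR : R * R = (p - 1) • R + p • (1 : Matrix Ω Ω ℝ)) (hq : q ≠ 0) (hp : p ≠ 0) (hn : 1 ≤ n)
    (htS : ∀ j, 1 ≤ j → j ≤ n → trace (alt S R j) = 0)
    (heq : alt S R n = alt R S n) (hodd : Odd n) : q = p := by
  obtain ⟨m, rfl⟩ := hodd
  have h := congrArg trace (eq_of_alt_odd hS hR hq hp heq)
  have h1 := htS 1 le_rfl hn
  rw [alt_one] at h1
  simp [h1, trace_one] at h
  linarith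

/-- For each eigenvalue `2√(pq) cos (2πl/n)` the quadratic equation satisfied through its
multiplicity. -/
theorem multiplicity [Nonempty Ω] (hn : 3 ≤ n) (hq : 0 < q) (hp : 0 < p) (hSt : Sᵀ = S)
    (hRt : Rᵀ = R) (hS : S * S = (q - 1) • S + q • (1 : Matrix Ω Ω ℝ))
    (hR : R * R = (p - 1) • R + p • (1 : Matrix Ω Ω ℝ))
    (htS : ∀ j, 1 ≤ j → j ≤ n → trace (alt S R j) = 0)
    (htR : ∀ j, 1 ≤ j → j ≤ n → trace (alt R S j) = 0)
    (heq : alt S R n = alt R S n) {l : ℕ} (hl : 1 ≤ l) (hl' : 2 * l < n) :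
    ∃ r : ℕ, 1 ≤ r ∧
      ((n : ℝ) * r - 2 * Fintype.card Ω) * (2 * √(p * q) * Real.cos (ang n l)) ^ 2
        - (n : ℝ) * r * ((p - 1) * (q - 1)) * (2 * √(p * q) * Real.cos (ang n l))
        + (8 * p * q * Fintype.card Ω - (n : ℝ) * r * ((p * q + 1) * (p + q))) = 0 := by
  set g := √(p * q)
  have hg : 0 < g := Real.sqrt_pos.2 (mul_pos hp hq)
  have hg2 : g ^ 2 = p * q := Real.sq_sqrt (mul_pos hp hq).le
  have hpq : Odd n → q = p := eq_of_odd hS hR hq.ne' hp.ne' (by omega) htS heq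
  have hodd : Odd n → q = g := fun h => by
    have : g = √(q * q) := by simp only [g, hpq h]
    rw [this, Real.sqrt_mul_self hq.le]
  have hprod := G_eq_prod hn hg hodd
  rw [hg2] at hprod
  set u := centralElt S R (q - 1) (p - 1)
  set f := fPoly (q - 1) (p - 1) q p
  have hfe : f = (X - C (p * q + 1)) * (X + C (p + q)) := by
    simp only [f, fPoly, map_add, map_mul, map_sub, map_ofNat, map_pow, map_one]; ring
  have hann : aeval u (G n (p * q) q * f) = 0 := by
    rcases Nat.even_or_odd n with ⟨m, rfl⟩ | ⟨m, rfl⟩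
    · obtain ⟨k, rfl⟩ : ∃ k, m = k + 1 := ⟨m - 1, by omega⟩
      rw [G, if_pos ⟨k + 1, rfl⟩, show (k + 1 + (k + 1)) / 2 = k + 1 by omega]
      exact annihilator_even hS hR (by rwa [show 2 * (k + 1) = k + 1 + (k + 1) by ring])
    · obtain ⟨k, rfl⟩ : ∃ k, m = k + 1 := ⟨m - 1, by omega⟩
      have hqp := hpq ⟨k + 1, rfl⟩
      subst hqp
      rw [G, if_neg (Nat.not_even_iff_odd.2 ⟨k + 1, rfl⟩),
        show (2 * (k + 1) + 1) / 2 = k + 1 by omega, hfe, ← mul_assoc, map_mul]
      have := annihilator_odd hS hR heq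
      rw [show 2 * q + (q - 1) ^ 2 = q * q + 1 by ring] at this
      rw [show k + 1 + 1 = k + 2 from rfl, this, zero_mul]
  obtain ⟨e, htr, hzero⟩ := exists_eigen (u := u) (transpose_centralElt hSt hRt _ _)
  set s := Finset.Icc 1 ((n - 1) / 2)
  have hls : l ∈ s := Finset.mem_Icc.2 ⟨hl, by omega⟩
  have hmem : ∀ j ∈ s, 1 ≤ j ∧ 2 * j < n := fun j hj => by
    have := Finset.mem_Icc.1 hj; omega
  set lam : ℕ → ℝ := fun j => 2 * g * Real.cos (ang n j)
  set N : ℝ := (Fintype.card Ω : ℝ)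
  set h0 : ℝ[X] := ∏ j ∈ s.erase l, (X - C (lam j))
  have hD : ∀ d, d < (n - 1) / 2 → ∀ h : ℝ[X], h.natDegree ≤ d →
      (n : ℝ) * trace (aeval u (f * h))
        + 8 * p * q * N * ∑ j ∈ s, h.eval (lam j) * Real.sin (ang n j) ^ 2 = 0 := by
    have base : ∀ k, k < (n - 1) / 2 → (n : ℝ) * trace (aeval u (f * U (p * q) (k + 1)))
        + 8 * p * q * N * ∑ j ∈ s, (U (p * q) (k + 1)).eval (lam j) * Real.sin (ang n j) ^ 2
          = 0 := by
      intro k hk
      have horth := sum_sin_mul_sin (n := n) (k := k + 1) (by omega) (by omega)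
      have : ∀ j ∈ s, (U (p * q) (k + 1)).eval (lam j) * Real.sin (ang n j) ^ 2
          = g ^ k * (Real.sin ((k + 1 : ℕ) * ang n j) * Real.sin (ang n j)) := by
        intro j _
        have h1 := U_eval_cos g (ang n j) (k + 1)
        rw [hg2] at h1
        refine mul_left_cancel₀ hg.ne' ?_
        rw [pow_succ'] at h1
        linear_combination (Real.sin (ang n j)) * h1
      rw [Finset.sum_congr rfl this, ← Finset.mul_sum,
        trace_fPoly_mul_U hn hS hR hq.ne' hp.ne' htS htR heq (by omega) (by omega)]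
      unfold ang
      rw [horth]
      split_ifs with h
      · obtain rfl : k = 0 := by omega
        simp [N]; ring
      · simp
    intro d
    induction d with
    | zero =>
      intro hd h hh
      rw [eq_C_of_natDegree_le_zero hh]
      have := base 0 hd
      simp only [zero_add, U_one, mul_one, eval_one, one_mul] at this
      simp only [map_mul, aeval_C, eval_C, Algebra.algebraMap_eq_smul_one, mul_smul_comm,
        mul_one, trace_smul, smul_eq_mul, ← Finset.mul_sum]
      linear_combination h.coeff 0 * this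
    | succ d ih =>
      intro hd h hh
      set α := h.coeff (d + 1)
      have hU := base (d + 1) hd
      have hdeg : (h - C α * U (p * q) (d + 2)).natDegree ≤ d := by
        rw [natDegree_le_iff_coeff_eq_zero]
        intro j hj
        rw [coeff_sub, coeff_C_mul]
        rcases Nat.eq_or_lt_of_le (Nat.succ_le_of_lt hj) with rfl | hj'
        · have := (monic_U (p * q) (d + 1)).coeff_natDegree
          rw [natDegree_U] at this
          simp [α, this]
        · rw [coeff_eq_zero_of_natDegree_lt (hh.trans_lt hj'),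
            coeff_eq_zero_of_natDegree_lt (by rw [natDegree_U]; exact hj'), mul_zero, sub_zero]
      have hr := ih (by omega) _ hdeg
      simp only [mul_sub, map_sub, map_mul, aeval_C, Algebra.algebraMap_eq_smul_one,
        smul_mul_assoc, one_mul, mul_smul_comm, trace_sub, trace_smul, smul_eq_mul, eval_sub,
        eval_mul, eval_C, sub_mul, Finset.sum_sub_distrib, mul_assoc, ← Finset.mul_sum] at hr
      simp only [map_mul, mul_assoc, show d + 1 + 1 = d + 2 from rfl] at hU ⊢
      linear_combination hr + α * hU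
  have hdeg0 : h0.natDegree = (n - 1) / 2 - 1 := by
    rw [natDegree_prod_of_monic _ _ fun j _ => monic_X_sub_C _]
    simp [s, Finset.card_erase_of_mem hls]
  have hE := hD _ (by omega) h0 hdeg0.le
  have hsum : ∑ j ∈ s, h0.eval (lam j) * Real.sin (ang n j) ^ 2
      = h0.eval (lam l) * Real.sin (ang n l) ^ 2 := by
    refine Finset.sum_eq_single_of_mem l hls fun j hj hne => ?_
    simp [h0, eval_prod, Finset.prod_eq_zero (Finset.mem_erase.2 ⟨hne, hj⟩)]
  set r := (Finset.univ.filter fun i => e i = lam l).card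
  have htrace : trace (aeval u (f * h0)) = r * (f.eval (lam l) * h0.eval (lam l)) := by
    rw [htr, ← nsmul_eq_mul, ← Finset.sum_const, Finset.sum_filter]
    refine Finset.sum_congr rfl fun i _ => ?_
    split_ifs with h
    · rw [eval_mul, h]
    · have := hzero _ hann i
      rw [eval_mul, hprod, ← Finset.mul_prod_erase s _ hls, eval_mul, eval_sub, eval_X, eval_C,
        mul_assoc, mul_eq_zero, or_iff_right (sub_ne_zero.2 h)] at this
      rw [eval_mul]
      linear_combination this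
  have hne : h0.eval (lam l) ≠ 0 := by
    rw [eval_prod, Finset.prod_ne_zero_iff]
    intro j hj
    obtain ⟨hjl, hjs⟩ := Finset.mem_erase.1 hj
    rw [eval_sub, eval_X, eval_C, sub_ne_zero]
    intro h
    have h1 := ang_mem hl hl'
    have h2 := ang_mem (hmem j hjs).1 (hmem j hjs).2
    have h3 := Real.injOn_cos ⟨h1.1.le, h1.2.le⟩ ⟨h2.1.le, h2.2.le⟩
      (mul_left_cancel₀ (by positivity : 2 * g ≠ 0) h)
    unfold ang at h3
    have hn0 : (n : ℝ) ≠ 0 := by exact_mod_cast (by omega : n ≠ 0)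
    field_simp at h3
    exact hjl (by exact_mod_cast h3.symm)
  have hN : 0 < N := by simp only [N]; exact_mod_cast Fintype.card_pos
  have hkey : (n : ℝ) * r * f.eval (lam l) + 8 * p * q * N * Real.sin (ang n l) ^ 2 = 0 := by
    refine (mul_eq_zero.1 ?_).resolve_right hne
    rw [htrace, hsum] at hE
    linear_combination hE
  refine ⟨r, ?_, ?_⟩
  · by_contra hr0
    have : r = 0 := by omega
    rw [this] at hkey
    simp [hp.ne', hq.ne', hN.ne', sin_ang_ne hl hl'] at hkey
  · rw [hfe, Real.sin_sq] at hkey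
    simp only [eval_mul, eval_sub, eval_add, eval_X, eval_C, lam] at hkey
    linear_combination hkey - 2 * N * (4 * Real.cos (ang n l) ^ 2) * hg2

end Cfsg.Agent.Lib.FeitHigman.Spectral
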