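import Cfsg.Agent.Lib.FeitHigman.Algebra

/-!
# Traces of polynomials in the central element
-/

namespace Cfsg.Agent.Lib.FeitHigman.Trace

open Polynomial Matrix Cfsg.Agent.Lib.FeitHigman.Alt Cfsg.Agent.Lib.FeitHigman.Poly
  Cfsg.Agent.Lib.FeitHigman.Algebra

variable {Ω : Type*} [Fintype Ω] [DecidableEq Ω] {S R : Matrix Ω Ω ℝ} {c a q p : ℝ} {n : ℕ}

/-- The vanishing of the traces extends two steps beyond `n`. -/
theorem trace_alt_ext (hn : 3 ≤ n) (hS : S * S = c • S + q • (1 : Matrix Ω Ω ℝ))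
    (hR : R * R = a • R + p • (1 : Matrix Ω Ω ℝ))
    (htS : ∀ j, 1 ≤ j → j ≤ n → trace (alt S R j) = 0)
    (htR : ∀ j, 1 ≤ j → j ≤ n → trace (alt R S j) = 0)
    (heq : alt S R n = alt R S n) :
    ∀ j, 1 ≤ j → j ≤ n + 2 → trace (alt S R j) = 0 := by
  obtain ⟨k, rfl⟩ : ∃ k, n = k + 3 := ⟨n - 3, by omega⟩
  have hqS := left_mul_quad hS
  have hqR := left_mul_quad hR
  have e1 : alt S R (k + 4) = c • alt S R (k + 3) + q • alt R S (k + 2) := by
    rw [alt_succ S R (k + 3), ← heq, alt_succ S R (k + 2), hqS]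
  have f1 : alt R S (k + 4) = a • alt R S (k + 3) + p • alt S R (k + 2) := by
    rw [alt_succ R S (k + 3), heq, alt_succ R S (k + 2), hqR]
  have e2 : alt S R (k + 5) =
      a • alt S R (k + 4) + p • (c • alt S R (k + 2) + q • alt R S (k + 1)) := by
    rw [alt_succ S R (k + 4), f1, mul_add, mul_smul_comm, mul_smul_comm, ← alt_succ,
      alt_succ S R (k + 1), hqS]
  intro j hj hj'
  by_cases h : j ≤ k + 3
  · exact htS j hj h
  have t1 : trace (alt S R (k + 4)) = 0 := by
    simp [e1, htS (k + 3) (by omega) (by omega), htR (k + 2) (by omega) (by omega)]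
  have t2 : trace (alt S R (k + 5)) = 0 := by
    simp [e2, t1, htS (k + 2) (by omega) (by omega), htR (k + 1) (by omega) (by omega)]
  obtain rfl | rfl : j = k + 4 ∨ j = k + 5 := by omega
  exacts [t1, t2]

theorem trace_mul_mul_left {P : Matrix Ω Ω ℝ} (hc : Commute P S) :
    trace (P * (S * R * S)) = trace (P * (S * S * R)) := by
  rw [← mul_assoc P (S * R) S, trace_mul_comm, ← mul_assoc, ← hc.eq, mul_assoc, ← mul_assoc S S R]

theorem trace_mul_swap {P : Matrix Ω Ω ℝ} (hc : Commute P S) :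
    trace (P * (R * S)) = trace (P * (S * R)) := by
  rw [← mul_assoc, trace_mul_comm, ← mul_assoc, ← hc.eq, mul_assoc]

/-- One step of the recursion for the traces. -/
theorem trace_step (hS : S * S = c • S + q • (1 : Matrix Ω Ω ℝ))
    (hR : R * R = a • R + p • (1 : Matrix Ω Ω ℝ)) (hq : q ≠ 0) {k : ℕ}
    (t2 : trace (alt S R (2 * (k + 1))) = 0) (t3 : trace (alt S R (2 * (k + 1) + 1)) = 0) :
    trace (aeval (centralElt S R c a) (U (p * q) (k + 1)) * (S * R))
        = p * q * trace (aeval (centralElt S R c a) (U (p * q) k))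
      ∧ trace (aeval (centralElt S R c a) (U (p * q) (k + 1)) * R)
        = p * trace (aeval (centralElt S R c a) (U (p * q) k) * S)
          - c * p * trace (aeval (centralElt S R c a) (U (p * q) k)) := by
  set u := centralElt S R c a
  have hc : ∀ h : ℝ[X], Commute (aeval u h) S := fun h =>
    Algebra.commute_of_mem_adjoin_singleton_of_commute
      (Polynomial.aeval_mem_adjoin_singleton ℝ u) (commute_left hS).symm |>.symm
  rw [alt_two_mul, pow_succ_SR hS hR, trace_sub, trace_smul, smul_eq_mul, sub_eq_zero] at t2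
  rw [alt_two_mul_add_one, pow_succ_SR hS hR, sub_mul, trace_sub, smul_mul_assoc, trace_smul,
    smul_eq_mul, mul_assoc, trace_mul_mul_left (hc _), hS, add_mul, smul_mul_assoc, smul_mul_assoc,
    one_mul, mul_add, mul_smul_comm, mul_smul_comm, trace_add, trace_smul, trace_smul, smul_eq_mul,
    smul_eq_mul, t2] at t3
  refine ⟨t2, mul_left_cancel₀ hq ?_⟩
  linear_combination t3

theorem aeval_fPoly_mul_U (u : Matrix Ω Ω ℝ) (k : ℕ) :
    aeval u (fPoly c a q p * U (p * q) (k + 2)) =
      aeval u (U (p * q) (k + 4)) + (2 * (p * q)) • aeval u (U (p * q) (k + 2))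
        + (p * q) ^ 2 • aeval u (U (p * q) k)
        - (a * c) • (aeval u (U (p * q) (k + 3)) + (p * q) • aeval u (U (p * q) (k + 1)))
        - (4 * p * q + a ^ 2 * q + c ^ 2 * p) • aeval u (U (p * q) (k + 2)) := by
  have e : fPoly c a q p * U (p * q) (k + 2) = U (p * q) (k + 4)
      + C (2 * (p * q)) * U (p * q) (k + 2) + C ((p * q) ^ 2) * U (p * q) k
      - C (a * c) * (U (p * q) (k + 3) + C (p * q) * U (p * q) (k + 1))
      - C (4 * p * q + a ^ 2 * q + c ^ 2 * p) * U (p * q) (k + 2) := by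
    have h1 : X ^ 2 * U (p * q) (k + 2) = U (p * q) (k + 4)
        + C (2 * (p * q)) * U (p * q) (k + 2) + C ((p * q) ^ 2) * U (p * q) k := by
      rw [sq, mul_assoc, X_mul_U, mul_add, X_mul_U,
        show X * (C (p * q) * U (p * q) (k + 1)) = C (p * q) * (X * U (p * q) (k + 1)) by ring,
        X_mul_U]
      simp only [map_mul, map_pow, map_ofNat]; ring
    rw [fPoly, sub_mul, sub_mul, h1, mul_assoc, X_mul_U]
  rw [e]
  generalize 4 * p * q + a ^ 2 * q + c ^ 2 * p = F
  simp only [map_add, map_sub, map_mul (aeval u), aeval_C, Algebra.algebraMap_eq_smul_one,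
    smul_mul_assoc, one_mul]

/-- The values of `h ↦ tr ((f h)(u))` on the Chebyshev basis. -/
theorem trace_fPoly_mul_U (hn : 3 ≤ n) (hS : S * S = c • S + q • (1 : Matrix Ω Ω ℝ))
    (hR : R * R = a • R + p • (1 : Matrix Ω Ω ℝ)) (hq : q ≠ 0) (hp : p ≠ 0)
    (htS : ∀ j, 1 ≤ j → j ≤ n → trace (alt S R j) = 0)
    (htR : ∀ j, 1 ≤ j → j ≤ n → trace (alt R S j) = 0)
    (heq : alt S R n = alt R S n) {k : ℕ} (hk : 1 ≤ k) (hk' : 2 * k + 1 ≤ n) :
    trace (aeval (centralElt S R c a) (fPoly c a q p * U (p * q) k)) =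
      if k = 1 then -2 * p * q * (Fintype.card Ω : ℝ) else 0 := by
  have tS := trace_alt_ext hn hS hR htS htR heq
  have tR := trace_alt_ext hn hR hS htR htS heq.symm
  set u := centralElt S R c a
  set A : ℕ → ℝ := fun k => trace (aeval u (U (p * q) k))
  set Sq : ℕ → ℝ := fun k => trace (aeval u (U (p * q) k) * S)
  set Rq : ℕ → ℝ := fun k => trace (aeval u (U (p * q) k) * R)
  have step : ∀ j, 2 * j + 1 ≤ n →
      Rq (j + 1) = p * Sq j - c * p * A j ∧ Sq (j + 1) = q * Rq j - a * q * A j ∧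
      A (j + 2) = p * q * A j + a * c * A (j + 1) - a * Sq (j + 1) - c * Rq (j + 1) := by
    intro j hj
    obtain ⟨hX, h1⟩ := trace_step hS hR hq (k := j) (tS _ (by omega) (by omega))
      (tS _ (by omega) (by omega))
    obtain ⟨hX', h2⟩ := trace_step hR hS hp (k := j) (tR _ (by omega) (by omega))
      (tR _ (by omega) (by omega))
    rw [centralElt_swap, mul_comm q p] at hX' h2
    simp only [show centralElt S R c a = u from rfl] at hX hX' h1 h2
    refine ⟨h1, h2, ?_⟩
    have hXU : aeval u (U (p * q) (j + 1)) * u = aeval u (X * U (p * q) (j + 1)) := by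
      conv_lhs => arg 2; rw [← aeval_X (R := ℝ) u]
      rw [← map_mul, mul_comm]
    have hsum : aeval u (X * U (p * q) (j + 1)) = aeval u (U (p * q) (j + 1)) * (S * R)
        + aeval u (U (p * q) (j + 1)) * (R * S) - c • (aeval u (U (p * q) (j + 1)) * R)
        - a • (aeval u (U (p * q) (j + 1)) * S) + (a * c) • aeval u (U (p * q) (j + 1)) := by
      rw [← hXU]
      conv_lhs => arg 2; simp only [u, centralElt]
      simp only [mul_add, mul_sub, mul_smul_comm, mul_one]
    have := congrArg trace hsum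
    rw [X_mul_U, map_add, map_mul (aeval u) (C _), aeval_C, Algebra.algebraMap_eq_smul_one,
      smul_mul_assoc, one_mul] at this
    simp only [trace_add, trace_sub, trace_smul, smul_eq_mul, hX, hX'] at this
    simp only [A, Sq, Rq]
    linear_combination this
  have A0 : A 0 = 0 := by simp [A, U_zero]
  have S0 : Sq 0 = 0 := by simp [Sq, U_zero]
  have R0 : Rq 0 = 0 := by simp [Rq, U_zero]
  have A1 : A 1 = Fintype.card Ω := by simp [A, U_one, trace_one]
  obtain ⟨r1, s1, a2⟩ := step 0 (by omega)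
  obtain ⟨r2, s2, a3⟩ := step 1 (by omega)
  rcases k with _ | _ | k
  · omega
  · simp only [zero_add, if_true]
    have e : fPoly c a q p * U (p * q) 1 = U (p * q) 3 + C (p * q) * U (p * q) 1
        - C (a * c) * U (p * q) 2 - C (4 * p * q + a ^ 2 * q + c ^ 2 * p) * U (p * q) 1 := by
      simp only [fPoly, U, zero_add]; ring
    rw [e]
    generalize hF : 4 * p * q + a ^ 2 * q + c ^ 2 * p = F
    simp only [map_add, map_sub, map_mul (aeval u), aeval_C, Algebra.algebraMap_eq_smul_one,
      smul_mul_assoc, one_mul, trace_add, trace_sub, trace_smul, smul_eq_mul]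
    change A 3 + p * q * A 1 - a * c * A 2 - F * A 1 = _
    subst hF
    simp only [zero_add, Nat.reduceAdd] at r1 s1 a2 r2 s2 a3
    rw [a3, a2, r2, s2, r1, s1, A0, S0, R0, A1]
    ring
  · rw [aeval_fPoly_mul_U, if_neg (by omega)]
    simp only [trace_add, trace_sub, trace_smul, smul_eq_mul]
    change A (k + 4) + _ * A (k + 2) + _ * A k - _ * (A (k + 3) + _ * A (k + 1)) - _ * A (k + 2) = 0
    obtain ⟨r3, s3, a4⟩ := step (k + 2) (by omega)
    obtain ⟨r2', s2', -⟩ := step (k + 1) (by omega)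
    obtain ⟨-, -, a2'⟩ := step k (by omega)
    simp only [show k + 1 + 1 = k + 2 by rfl, show k + 2 + 1 = k + 3 by rfl,
      show k + 2 + 2 = k + 4 by rfl] at r3 s3 a4 r2' s2' a2'
    rw [a4, r3, s3, r2', s2']
    linear_combination (-(p * q)) * a2'

end Cfsg.Agent.Lib.FeitHigman.Trace
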